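/-
The Thompson–Wielandt theorem for pairs of conjugate "primitive" subgroups.

A pair `M₁, M₂` is primitive when `N_G(X) = Mᵢ` for every non-trivial subgroup `X` normal in `Mᵢ`.
With `A₁ = core_{M₁}(M₁ ∩ M₂)`, `A₂ = core_{M₁}(A₁ ∩ B₁)` and `B₁, B₂` symmetrical:
* `isPGroup_coreTwo` : if `O_r(M₁) ≠ 1` then `A₂` is an `r`-group;
* `layer_eq_bot` : if `A₂ ≠ 1 ≠ B₂` then `E(M₁) = 1`;
* `exists_prime` : if `A₂ ≠ 1 ≠ B₂` then for a prime `p`, `A₂B₂` is a `p`-group and the generalized
  Fitting subgroups of `Mᵢ`, `A₁`, `B₁` are their `p`-cores.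
-/
import Cfsg.Agent.EqLemmas
import Cfsg.Agent.Lib.Cores.Basic
import Cfsg.Agent.Lib.Cores.Fitting
import Cfsg.Agent.Lib.Cores.Subnormal
import Cfsg.Agent.Lib.Components.GenFitting
import Cfsg.Agent.Lib.Coprime.PQ
import Cfsg.Agent.Lib.Transfer.Residual
import Cfsg.Agent.S2820

namespace Cfsg.Agent.ThompsonWielandt

open Subgroup
open scoped Pointwise commutatorElement

variable {G : Type*} [Group G]

/-! ### Cores inside a subgroup -/

/-- The largest subgroup of `Y` normal in `M`. -/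
def relCore (M Y : Subgroup G) : Subgroup G := (Y.subgroupOf M).normalCore.map M.subtype

/-- `A₁` for the pair `M, N`. -/
def coreOne (M N : Subgroup G) : Subgroup G := relCore M (M ⊓ N)

/-- `A₂` for the pair `M, N`. -/
def coreTwo (M N : Subgroup G) : Subgroup G := relCore M (coreOne M N ⊓ coreOne N M)

theorem mem_relCore {M Y : Subgroup G} {x : G} :
    x ∈ relCore M Y ↔ x ∈ M ∧ ∀ m ∈ M, m * x * m⁻¹ ∈ Y := by
  constructor
  · rintro ⟨y, hy, rfl⟩
    exact ⟨y.2, fun m hm => hy ⟨m, hm⟩⟩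
  · rintro ⟨hx, h⟩
    exact ⟨⟨x, hx⟩, fun m => h m.1 m.2, rfl⟩

theorem relCore_le_left (M Y : Subgroup G) : relCore M Y ≤ M := map_subtype_le _

theorem relCore_le_right (M Y : Subgroup G) : relCore M Y ≤ Y := by
  intro x hx
  simpa using (mem_relCore.mp hx).2 1 M.one_mem

theorem le_normalizer_map_subtype {M : Subgroup G} (N : Subgroup M) [N.Normal] :
    M ≤ normalizer ((N.map M.subtype : Subgroup G) : Set G) := by
  have h := le_normalizer_map M.subtype (H := N)
  rwa [normalizer_eq_top N, ← MonoidHom.range_eq_map, range_subtype] at h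

theorem le_normalizer_relCore (M Y : Subgroup G) :
    M ≤ normalizer (relCore M Y : Set G) :=
  le_normalizer_map_subtype _

theorem le_relCore {M Y X : Subgroup G} (hXM : X ≤ M) (hXY : X ≤ Y)
    (hn : M ≤ normalizer (X : Set G)) : X ≤ relCore M Y := fun x hx =>
  mem_relCore.mpr ⟨hXM hx, fun m hm => hXY ((mem_normalizer_iff.mp (hn hm) x).mp hx)⟩

theorem coreOne_le_left (M N : Subgroup G) : coreOne M N ≤ M := relCore_le_left _ _

theorem coreOne_le_right (M N : Subgroup G) : coreOne M N ≤ N :=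
  (relCore_le_right _ _).trans inf_le_right

theorem coreTwo_le (M N : Subgroup G) : coreTwo M N ≤ coreOne M N ⊓ coreOne N M :=
  relCore_le_right _ _

theorem le_coreOne {M N X : Subgroup G} (hXM : X ≤ M) (hXN : X ≤ N)
    (hn : M ≤ normalizer (X : Set G)) : X ≤ coreOne M N :=
  le_relCore hXM (le_inf hXM hXN) hn

/-- `A₁ ∩ B₁` is normalised by both `A₁` and `B₁`. -/
theorem coreOne_le_normalizer_inf (M N : Subgroup G) :
    coreOne N M ≤ normalizer ((coreOne M N ⊓ coreOne N M : Subgroup G) : Set G) :=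
  (le_inf ((coreOne_le_right N M).trans (le_normalizer_relCore _ _)) le_normalizer).trans
    inf_normalizer_le_normalizer_inf

/-! ### Subnormality inside a subgroup -/

theorem isSubnormal_subgroupOf_of_normal {B M : Subgroup G} (hn : M ≤ normalizer (B : Set G)) :
    (B.subgroupOf M).IsSubnormal :=
  (normal_subgroupOf_of_le_normalizer hn).isSubnormal

theorem isSubnormal_subgroupOf_step {X B M : Subgroup G} (hXB : X ≤ B)
    (hn : B ≤ normalizer (X : Set G)) (hsn : (B.subgroupOf M).IsSubnormal) :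
    (X.subgroupOf M).IsSubnormal :=
  IsSubnormal.step _ _ (comap_mono hXB) hsn <| normal_subgroupOf_of_le_normalizer fun b hb =>
    mem_normalizer_iff.mpr fun x => mem_normalizer_iff.mp (hn hb) (x : G)

theorem isSubnormal_inf_coreOne (M N : Subgroup G) :
    ((coreOne M N ⊓ coreOne N M).subgroupOf N).IsSubnormal :=
  isSubnormal_subgroupOf_step inf_le_right (coreOne_le_normalizer_inf M N)
    (isSubnormal_subgroupOf_of_normal (le_normalizer_relCore _ _))

/-- A subgroup of `A₁ ∩ B₁` normal in `M` is subnormal in `N`. -/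
theorem isSubnormal_of_le_inf {M N X : Subgroup G} (hX : X ≤ coreOne M N ⊓ coreOne N M)
    (hn : M ≤ normalizer (X : Set G)) : (X.subgroupOf N).IsSubnormal :=
  isSubnormal_subgroupOf_step hX ((inf_le_left.trans (coreOne_le_left M N)).trans hn)
    (isSubnormal_inf_coreOne M N)

/-- Components of `N` in a common subnormal subgroup are components of `M`. -/
theorem isComponent_transfer {K S M N : Subgroup G} (hKS : K ≤ S) (hSM : S ≤ M) (hSN : S ≤ N)
    (hK : Cfsg.IsComponent (K.subgroupOf N)) (hS : (S.subgroupOf M).IsSubnormal) :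
    Cfsg.IsComponent (K.subgroupOf M) := by
  constructor
  · have h1 : (K.subgroupOf S).IsSubnormal := hK.1.comap (inclusion hSN)
    refine IsSubnormal.trans (comap_mono hKS) ?_ hS
    exact h1.comap (subgroupOfEquivOfLe hSM).toMonoidHom
  · exact (Components.isQuasisimple_congr ((subgroupOfEquivOfLe (hKS.trans hSN)).trans
      (subgroupOfEquivOfLe (hKS.trans hSM)).symm)).mp hK.2

theorem component_perfect {K M : Subgroup G} (hKM : K ≤ M)
    (hK : Cfsg.IsComponent (K.subgroupOf M)) : ⁅K, K⁆ = K := by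
  have h := congrArg (Subgroup.map M.subtype) (Components.IsComponent.perfect hK)
  rwa [map_commutator, map_subgroupOf_eq_of_le hKM] at h

theorem component_le_or_commutes [Finite G] {K S M : Subgroup G} (hKM : K ≤ M) (hSM : S ≤ M)
    (hK : Cfsg.IsComponent (K.subgroupOf M)) (hS : (S.subgroupOf M).IsSubnormal) :
    K ≤ S ∨ ⁅K, S⁆ = ⊥ := by
  rcases Components.IsComponent.le_or_commutes hK hS with h | h
  · left
    have := map_mono (f := M.subtype) h
    rwa [map_subgroupOf_eq_of_le hKM, map_subgroupOf_eq_of_le hSM] at this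
  · right
    have := Components.map_subtype_commutator_eq_bot h
    rwa [map_subgroupOf_eq_of_le hKM, map_subgroupOf_eq_of_le hSM] at this

/-! ### `O_r` and `E` of a subgroup -/

/-- `E(M)` as a subgroup of the ambient group. -/
def layerOf (M : Subgroup G) : Subgroup G := (Cfsg.layer ↥M).map M.subtype

theorem pCoreOf_le (r : ℕ) (M : Subgroup G) : Cfsg.pCoreOf r M ≤ M := map_subtype_le _

theorem le_normalizer_pCoreOf (r : ℕ) (M : Subgroup G) :
    M ≤ normalizer (Cfsg.pCoreOf r M : Set G) := by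
  haveI := Cores.pCore_normal r ↥M
  exact le_normalizer_map_subtype _

theorem isPGroup_pCoreOf (r : ℕ) (M : Subgroup G) : IsPGroup r ↥(Cfsg.pCoreOf r M) :=
  (Cores.isPGroup_pCore r ↥M).map _

theorem le_pCoreOf {r : ℕ} {X M : Subgroup G} (hXM : X ≤ M) (hX : IsPGroup r ↥X)
    (hsn : (X.subgroupOf M).IsSubnormal) : X ≤ Cfsg.pCoreOf r M := by
  have h := map_mono (f := M.subtype)
    (Cores.le_pCore_of_isSubnormal hsn (hX.of_equiv (subgroupOfEquivOfLe hXM).symm))
  rwa [map_subgroupOf_eq_of_le hXM] at h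

theorem pCoreOf_map (r : ℕ) (M : Subgroup G) (φ : G ≃* G) :
    Cfsg.pCoreOf r (M.map φ.toMonoidHom) = (Cfsg.pCoreOf r M).map φ.toMonoidHom := by
  unfold Cfsg.pCoreOf
  rw [← Cores.pCore_map_mulEquiv (M.equivMapOfInjective φ.toMonoidHom φ.injective) r, map_map,
    map_map]
  rfl

theorem layerOf_map (M : Subgroup G) (φ : G ≃* G) :
    layerOf (M.map φ.toMonoidHom) = (layerOf M).map φ.toMonoidHom := by
  unfold layerOf
  rw [← Components.layer_map_equiv (M.equivMapOfInjective φ.toMonoidHom φ.injective), map_map,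
    map_map]
  rfl

theorem le_normalizer_layerOf (M : Subgroup G) : M ≤ normalizer (layerOf M : Set G) :=
  Cores.normalizer_le_normalizer_map (H := M) (Cfsg.layer ↥M) |>.trans' le_normalizer

/-! ### `O^r` -/

theorem map_map_residual_subgroupOf (r : ℕ) {H M : Subgroup G} (h : H ≤ M) :
    ((Cfsg.pResidual r ↥(H.subgroupOf M)).map (H.subgroupOf M).subtype).map M.subtype =
      (Cfsg.pResidual r ↥H).map H.subtype := by
  rw [Transfer.map_pResidual_subtype, Transfer.map_pResidual_subtype, MonoidHom.map_closure]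
  congr 1
  ext g
  constructor
  · rintro ⟨x, ⟨hx, hc⟩, rfl⟩
    exact ⟨hx, by simpa [Subgroup.orderOf_coe] using hc⟩
  · rintro ⟨hg, hc⟩
    exact ⟨⟨g, h hg⟩, ⟨hg, by simpa [Subgroup.orderOf_mk] using hc⟩, rfl⟩

theorem residual_residual (r : ℕ) (H : Subgroup G) :
    (Cfsg.pResidual r ↥((Cfsg.pResidual r ↥H).map H.subtype)).map
      ((Cfsg.pResidual r ↥H).map H.subtype).subtype = (Cfsg.pResidual r ↥H).map H.subtype := by
  refine le_antisymm (map_subtype_le _) ?_
  conv_lhs => rw [Transfer.map_pResidual_subtype]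
  conv_rhs => rw [Transfer.map_pResidual_subtype]
  exact closure_mono fun g hg =>
    ⟨by rw [Transfer.map_pResidual_subtype]; exact subset_closure hg, hg.2⟩

theorem residual_sup [Finite G] {r : ℕ} [Fact r.Prime] {X M : Subgroup G} (hXM : X ≤ M)
    (hsn : (X.subgroupOf M).IsSubnormal) (hres : (Cfsg.pResidual r ↥X).map X.subtype = X) :
    (Cfsg.pResidual r ↥(X ⊔ Cfsg.pCoreOf r M)).map (X ⊔ Cfsg.pCoreOf r M).subtype = X := by
  haveI := Cores.pCore_normal r ↥M
  have hres' : (Cfsg.pResidual r ↥(X.subgroupOf M)).map (X.subgroupOf M).subtype =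
      X.subgroupOf M := map_injective (subtype_injective M) <| by
    rw [map_map_residual_subgroupOf r hXM, hres, map_subgroupOf_eq_of_le hXM]
  have h := (S2820.result (p := r) (Cfsg.pCore r ↥M) (X.subgroupOf M)
    (Normal.isSubnormal inferInstance) hsn (Cores.isPGroup_pCore r ↥M) hres').2
  set J := Cfsg.pCore r ↥M ⊔ X.subgroupOf M with hJ
  have hJmap : J.map M.subtype = X ⊔ Cfsg.pCoreOf r M := by
    rw [hJ, Subgroup.map_sup, map_subgroupOf_eq_of_le hXM, sup_comm]
    rfl
  have hJof : (J.map M.subtype).subgroupOf M = J :=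
    comap_map_eq_self_of_injective (subtype_injective M) J
  have h2 := congrArg (Subgroup.map M.subtype) h
  rw [← hJof, map_map_residual_subgroupOf r (map_subtype_le J), map_subgroupOf_eq_of_le hXM,
    hJmap] at h2
  exact h2

theorem eq_of_isPGroup [Finite G] {p q : ℕ} [Fact p.Prime] [Fact q.Prime] {H : Subgroup G}
    (hH : H ≠ ⊥) (hp : IsPGroup p ↥H) (hq : IsPGroup q ↥H) : p = q := by
  by_contra hne
  obtain ⟨a, ha⟩ := IsPGroup.iff_card.mp hp
  obtain ⟨b, hb⟩ := IsPGroup.iff_card.mp hq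
  apply hH
  rw [← Subgroup.card_eq_one]
  exact Nat.eq_one_of_dvd_coprimes
    (Nat.coprime_pow_primes a b Fact.out Fact.out hne) ha.dvd hb.dvd

theorem exists_mem_normalizer_of_lt [Finite G] {r : ℕ} [Fact r.Prime] {P Q : Subgroup G}
    (hP : IsPGroup r ↥P) (hlt : Q < P) :
    ∃ x ∈ P, x ∉ Q ∧ x ∈ normalizer (Q : Set G) := by
  have h : Q.subgroupOf P < ⊤ := by
    rw [lt_top_iff_ne_top, Ne, subgroupOf_eq_top]
    exact hlt.not_ge
  obtain ⟨⟨x, hxP⟩, hx, hxQ⟩ :=
    SetLike.exists_of_lt (Group.normalizerCondition_of_isNilpotent (h := hP.isNilpotent) _ h)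
  exact ⟨x, hxP, hxQ, Coprime.mem_normalizer_of_forall fun y hy =>
    (mem_normalizer_iff.mp hx ⟨y, hlt.le hy⟩).mp hy⟩

theorem centralizes_of_coprime_generators [Finite G] {r : ℕ} [Fact r.Prime] {K U : Subgroup G}
    (hK : ⁅K, K⁆ = K)
    (h : ∀ y ∈ K, (orderOf y).Coprime r → y ∈ centralizer (U : Set G)) :
    K ≤ centralizer (U : Set G) := by
  have htop : Cfsg.pResidual r ↥K = ⊤ := by
    by_contra hne
    haveI : Group.IsSolvable (↥K ⧸ Cfsg.pResidual r ↥K) :=
      haveI := (Transfer.isPGroup_quotient_pResidual (G := ↥K) (p := r)).isNilpotent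
      inferInstance
    haveI : Nontrivial (↥K ⧸ Cfsg.pResidual r ↥K) := QuotientGroup.nontrivial_iff.mpr hne
    have hc : commutator ↥K = ⊤ := map_injective (subtype_injective K) <| by
      rw [map_subtype_commutator, hK, ← MonoidHom.range_eq_map, range_subtype]
    refine (IsSolvable.commutator_lt_top_of_nontrivial (↥K ⧸ Cfsg.pResidual r ↥K)).ne ?_
    have := congrArg (Subgroup.map (QuotientGroup.mk' (Cfsg.pResidual r ↥K))) hc
    rwa [_root_.commutator_def, map_commutator, map_top_of_surjective _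
      (QuotientGroup.mk'_surjective _), ← _root_.commutator_def] at this
  intro y hy
  have hy' : y ∈ (Cfsg.pResidual r ↥K).map K.subtype := ⟨⟨y, hy⟩, htop ▸ mem_top _, rfl⟩
  rw [Transfer.map_pResidual_subtype] at hy'
  exact (closure_le (centralizer (U : Set G))).mpr (fun z hz => h z hz.1 hz.2) hy'

/-! ### Primitive pairs -/

/-- A pair of distinct conjugate subgroups, each the full normalizer of each of its non-trivial
normal subgroups. -/
structure Pair (M₁ M₂ : Subgroup G) : Prop where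
  normalizer_left : ∀ X : Subgroup G, X ≠ ⊥ → X ≤ M₁ → M₁ ≤ normalizer (X : Set G) →
    normalizer (X : Set G) = M₁
  normalizer_right : ∀ X : Subgroup G, X ≠ ⊥ → X ≤ M₂ → M₂ ≤ normalizer (X : Set G) →
    normalizer (X : Set G) = M₂
  conjugate : ∃ g : G, M₂ = M₁.map (MulAut.conj g).toMonoidHom
  ne : M₁ ≠ M₂

variable {M₁ M₂ : Subgroup G}

theorem Pair.symm (h : Pair M₁ M₂) : Pair M₂ M₁ where
  normalizer_left := h.normalizer_right
  normalizer_right := h.normalizer_left
  conjugate := by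
    obtain ⟨g, hg⟩ := h.conjugate
    refine ⟨g⁻¹, ?_⟩
    rw [hg, map_map]
    ext x
    simp [mul_assoc]
  ne := h.ne.symm

theorem Pair.card_pCoreOf (h : Pair M₁ M₂) (r : ℕ) :
    Nat.card ↥(Cfsg.pCoreOf r M₂) = Nat.card ↥(Cfsg.pCoreOf r M₁) := by
  obtain ⟨g, rfl⟩ := h.conjugate
  rw [pCoreOf_map]
  exact card_map_of_injective (MulAut.conj g).injective

theorem Pair.card_layerOf (h : Pair M₁ M₂) :
    Nat.card ↥(layerOf M₂) = Nat.card ↥(layerOf M₁) := by
  obtain ⟨g, rfl⟩ := h.conjugate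
  rw [layerOf_map]
  exact card_map_of_injective (MulAut.conj g).injective

theorem Pair.pCoreOf_ne_bot [Finite G] (h : Pair M₁ M₂) {r : ℕ}
    (hQ : Cfsg.pCoreOf r M₁ ≠ ⊥) : Cfsg.pCoreOf r M₂ ≠ ⊥ := by
  rwa [Ne, ← Subgroup.card_eq_one, h.card_pCoreOf r, Subgroup.card_eq_one]

/-- For `U = O_r(M₁) ∩ M₂`, `[U, B₁] ≤ O_r(M₂)`. -/
theorem commutator_mem_pCoreOf {r : ℕ} {u b : G} (hu : u ∈ Cfsg.pCoreOf r M₁ ⊓ M₂)
    (hb : b ∈ coreOne M₂ M₁) : u * b * u⁻¹ * b⁻¹ ∈ Cfsg.pCoreOf r M₂ := by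
  set Q₁ := Cfsg.pCoreOf r M₁
  set B := coreOne M₂ M₁
  have hU : B ≤ normalizer ((Q₁ ⊓ M₂ : Subgroup G) : Set G) :=
    (le_inf ((coreOne_le_right M₂ M₁).trans (le_normalizer_pCoreOf r M₁))
      ((coreOne_le_left M₂ M₁).trans le_normalizer)).trans inf_normalizer_le_normalizer_inf
  have hB : Q₁ ⊓ M₂ ≤ normalizer (B : Set G) := inf_le_right.trans (le_normalizer_relCore _ _)
  have hc : u * b * u⁻¹ * b⁻¹ ∈ (Q₁ ⊓ M₂) ⊓ B := by
    refine mem_inf.mpr ⟨?_, mul_mem ((mem_normalizer_iff.mp (hB hu) b).mp hb) (inv_mem hb)⟩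
    rw [mul_assoc, mul_assoc, ← mul_assoc b]
    exact Subgroup.mul_mem _ hu ((mem_normalizer_iff.mp (hU hb) _).mp (Subgroup.inv_mem _ hu))
  exact le_pCoreOf (inf_le_left.trans inf_le_right)
    (((isPGroup_pCoreOf r M₁).to_le inf_le_left).to_le inf_le_left)
    (isSubnormal_subgroupOf_step inf_le_right
      ((le_inf hU le_normalizer).trans inf_normalizer_le_normalizer_inf)
      (isSubnormal_subgroupOf_of_normal (le_normalizer_relCore _ _))) hc

/-- The main step: `B₁` contains no non-trivial `O^r`-perfect subgroup normal in `M₁` and subnormal in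
`M₂`, once `O_r(M₁) ≠ 1`. -/
theorem Pair.eq_bot_of_residual_eq [Finite G] (h : Pair M₁ M₂) {r : ℕ} [Fact r.Prime]
    (hQ : Cfsg.pCoreOf r M₁ ≠ ⊥) {X : Subgroup G} (hX₁ : X ≤ M₁)
    (hXn : M₁ ≤ normalizer (X : Set G)) (hXB : X ≤ coreOne M₂ M₁)
    (hsn : (X.subgroupOf M₂).IsSubnormal)
    (hres : (Cfsg.pResidual r ↥X).map X.subtype = X) : X = ⊥ := by
  by_contra hX
  have hN := h.normalizer_left X hX hX₁ hXn
  set Q₁ := Cfsg.pCoreOf r M₁ with hQ₁
  set Q₂ := Cfsg.pCoreOf r M₂ with hQ₂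
  have hsup := residual_sup (hXB.trans (coreOne_le_left _ _)) hsn hres
  have hnorm : normalizer ((X ⊔ Q₂ : Subgroup G) : Set G) ≤ M₁ := by
    have := Cores.normalizer_le_normalizer_map (H := X ⊔ Q₂) (Cfsg.pResidual r ↥(X ⊔ Q₂))
    rwa [hQ₂, hsup, hN] at this
  have hQ₂₁ : Q₂ ≤ M₁ := (le_sup_right.trans le_normalizer).trans hnorm
  have hU : Q₁ ⊓ M₂ ≤ Q₂ := by
    have hUB : Q₁ ⊓ M₂ ≤ coreOne M₂ M₁ := fun u hu => mem_relCore.mpr ⟨hu.2, fun m hm => by
      refine ⟨Subgroup.mul_mem M₂ (Subgroup.mul_mem M₂ hm hu.2) (Subgroup.inv_mem M₂ hm), hnorm ?_⟩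
      set v := m * u * m⁻¹ with hv
      have hvM : v ∈ M₂ := mul_mem (mul_mem hm hu.2) (inv_mem hm)
      have key : ∀ b ∈ coreOne M₂ M₁, v * b * v⁻¹ * b⁻¹ ∈ Q₂ := fun b hb => by
        have h1 := commutator_mem_pCoreOf hu
          ((mem_normalizer_iff.mp (le_normalizer_relCore _ _ (inv_mem hm)) b).mp hb)
        have h2 := (mem_normalizer_iff.mp (le_normalizer_pCoreOf r M₂ hm) _).mp h1
        convert h2 using 1
        rw [hv]
        group
      have hXv : X ≤ (X ⊔ Q₂).comap (MulAut.conj v).toMonoidHom := fun x hx => by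
        show v * x * v⁻¹ ∈ X ⊔ Q₂
        have := mul_mem ((le_sup_right : Q₂ ≤ X ⊔ Q₂) (key x (hXB hx)))
          ((le_sup_left : X ≤ X ⊔ Q₂) hx)
        simpa [mul_assoc] using this
      have hQv : Q₂ ≤ (X ⊔ Q₂).comap (MulAut.conj v).toMonoidHom := fun x hx =>
        (le_sup_right : Q₂ ≤ X ⊔ Q₂)
          ((mem_normalizer_iff.mp (le_normalizer_pCoreOf r M₂ hvM) x).mp hx)
      exact Coprime.mem_normalizer_of_forall fun x hx => sup_le hXv hQv hx⟩
    refine le_pCoreOf inf_le_right ((isPGroup_pCoreOf r M₁).to_le inf_le_left) ?_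
    exact isSubnormal_subgroupOf_step hUB
      ((le_inf ((coreOne_le_right M₂ M₁).trans (le_normalizer_pCoreOf r M₁))
        ((coreOne_le_left M₂ M₁).trans le_normalizer)).trans inf_normalizer_le_normalizer_inf)
      (isSubnormal_subgroupOf_of_normal (le_normalizer_relCore _ _))
  have hle : Q₁ ≤ M₂ := by
    by_contra hn
    have hQn : Q₂ ≤ normalizer (Q₁ : Set G) := hQ₂₁.trans (le_normalizer_pCoreOf r M₁)
    have hP : IsPGroup r ↥(Q₂ ⊔ Q₁) :=
      (isPGroup_pCoreOf r M₂).to_sup_of_normal_right' (isPGroup_pCoreOf r M₁) hQn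
    have hlt : Q₂ < Q₂ ⊔ Q₁ := lt_of_le_of_ne le_sup_left fun he =>
      hn ((le_sup_right.trans he.ge).trans (pCoreOf_le r M₂))
    obtain ⟨x, hxP, hxQ, hxN⟩ := exists_mem_normalizer_of_lt hP hlt
    rw [h.normalizer_right Q₂ (h.pCoreOf_ne_bot hQ) (pCoreOf_le r M₂)
      (le_normalizer_pCoreOf r M₂)] at hxN
    rw [← SetLike.mem_coe, coe_mul_of_left_le_normalizer_right Q₂ Q₁ hQn] at hxP
    obtain ⟨a, ha, b, hb, rfl⟩ := hxP
    have hbM : b ∈ M₂ := by
      have := mul_mem (inv_mem (pCoreOf_le r M₂ ha)) hxN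
      simpa using this
    exact hxQ (mul_mem ha (hU ⟨hb, hbM⟩))
  have heq : Q₁ = Q₂ := eq_of_le_of_card_ge ((le_inf le_rfl hle).trans hU) (h.card_pCoreOf r).le
  apply h.ne
  rw [← h.normalizer_left Q₁ hQ (pCoreOf_le r M₁) (le_normalizer_pCoreOf r M₁), heq,
    h.normalizer_right Q₂ (h.pCoreOf_ne_bot hQ) (pCoreOf_le r M₂) (le_normalizer_pCoreOf r M₂)]

/-- If `O_r(M₁) ≠ 1` then `A₂` is an `r`-group. -/
theorem Pair.isPGroup_coreTwo [Finite G] (h : Pair M₁ M₂) {r : ℕ} [Fact r.Prime]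
    (hQ : Cfsg.pCoreOf r M₁ ≠ ⊥) : IsPGroup r ↥(coreTwo M₁ M₂) := by
  set A := coreTwo M₁ M₂
  set X := (Cfsg.pResidual r ↥A).map A.subtype with hXdef
  have hXA : X ≤ A := map_subtype_le _
  have hXn : M₁ ≤ normalizer (X : Set G) :=
    (le_normalizer_relCore _ _).trans (Cores.normalizer_le_normalizer_map (H := A) _)
  have hX : X = ⊥ := h.eq_bot_of_residual_eq hQ (hXA.trans (relCore_le_left _ _)) hXn
    ((hXA.trans (coreTwo_le _ _)).trans inf_le_right)
    (isSubnormal_of_le_inf (hXA.trans (coreTwo_le _ _)) hXn) (residual_residual r A)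
  have h0 : Cfsg.pResidual r ↥A = ⊥ :=
    map_injective (subtype_injective A) (hX.trans (Subgroup.map_bot _).symm)
  exact (Transfer.isPGroup_quotient_pResidual (G := ↥A) (p := r)).of_equiv
    ((QuotientGroup.quotientMulEquivOfEq h0).trans QuotientGroup.quotientBot)

theorem Pair.layerOf_le [Finite G] (h : Pair M₁ M₂) (hA : coreTwo M₁ M₂ ≠ ⊥) :
    layerOf M₂ ≤ coreOne M₂ M₁ := by
  have hM : layerOf M₂ ≤ M₁ := by
    rw [layerOf, map_le_iff_le_comap]
    refine Components.layer_le fun K hK => ?_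
    rw [← map_le_iff_le_comap]
    rw [← h.normalizer_left _ hA (relCore_le_left _ _) (le_normalizer_relCore _ _)]
    have hof : Cfsg.IsComponent ((K.map M₂.subtype).subgroupOf M₂) := by
      rwa [show (K.map M₂.subtype).subgroupOf M₂ = K from
        comap_map_eq_self_of_injective (subtype_injective M₂) K]
    rcases component_le_or_commutes (map_subtype_le K)
        (((coreTwo_le M₁ M₂).trans inf_le_right).trans (coreOne_le_left _ _)) hof
        (isSubnormal_of_le_inf (coreTwo_le _ _) (le_normalizer_relCore _ _)) with h1 | h1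
    · exact h1.trans le_normalizer
    · exact (commutator_eq_bot_iff_le_centralizer.mp h1).trans (centralizer_le_normalizer _)
  exact le_coreOne (map_subtype_le _) hM (le_normalizer_layerOf M₂)

/-- If `A₂ ≠ 1 ≠ B₂` then `E(M₁) = 1`. -/
theorem Pair.layer_eq_bot [Finite G] (h : Pair M₁ M₂) (hA : coreTwo M₁ M₂ ≠ ⊥)
    (hB : coreTwo M₂ M₁ ≠ ⊥) : Cfsg.layer ↥M₁ = ⊥ := by
  have hE₂ := h.layerOf_le hA
  have hE₁ := h.symm.layerOf_le hB
  set A := coreOne M₁ M₂ with hAdef
  set B := coreOne M₂ M₁ with hBdef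
  have key : layerOf M₂ ≤ layerOf M₁ := by
    rw [layerOf, map_le_iff_le_comap]
    refine Components.layer_le fun K' hK' => ?_
    rw [← map_le_iff_le_comap]
    set K := K'.map M₂.subtype with hKdef
    have hK2 : K ≤ M₂ := map_subtype_le K'
    have hK : Cfsg.IsComponent (K.subgroupOf M₂) := by
      rwa [hKdef, show (K'.map M₂.subtype).subgroupOf M₂ = K' from
        comap_map_eq_self_of_injective (subtype_injective M₂) K']
    have hKB : K ≤ B := (map_mono (Components.IsComponent.le_layer hK')).trans hE₂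
    have hK1 : K ≤ M₁ := hKB.trans (coreOne_le_right _ _)
    rcases component_le_or_commutes hK2 (inf_le_right.trans (coreOne_le_left _ _)) hK
        (isSubnormal_inf_coreOne M₁ M₂) with h1 | h1
    · have hsn : ((A ⊓ B).subgroupOf M₁).IsSubnormal := by
        have := isSubnormal_inf_coreOne M₂ M₁
        rwa [inf_comm] at this
      have hcomp := isComponent_transfer h1 (inf_le_left.trans (coreOne_le_left _ _))
        (inf_le_right.trans (coreOne_le_left _ _)) hK hsn
      have := map_mono (f := M₁.subtype) (Components.IsComponent.le_layer hcomp)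
      rwa [map_subgroupOf_eq_of_le hK1] at this
    exfalso
    have hperf := component_perfect hK2 hK
    have hKA : ⁅K, A⁆ = ⊥ := by
      refine Components.commutator_eq_bot_of_perfect_of_le hperf (le_inf ?_ ?_)
        (by rw [commutator_comm]; exact h1)
      · rw [commutator_comm]
        exact le_normalizer_iff_commutator_le_left.mp (hK1.trans (le_normalizer_relCore _ _))
      · refine (commutator_mono hKB le_rfl).trans ?_
        exact le_normalizer_iff_commutator_le_left.mp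
          ((coreOne_le_right M₁ M₂).trans (le_normalizer_relCore _ _))
    have hCA : K ≤ centralizer (A : Set G) := commutator_eq_bot_iff_le_centralizer.mp hKA
    have hQ : ∀ r : ℕ, r.Prime → K ≤ centralizer (Cfsg.pCoreOf r M₁ : Set G) := by
      intro r hr
      haveI : Fact r.Prime := ⟨hr⟩
      by_cases hbot : Cfsg.pCoreOf r M₁ = ⊥
      · intro x _ y hy
        rw [hbot, SetLike.mem_coe, mem_bot] at hy
        rw [hy, one_mul, mul_one]
      have hB2r : IsPGroup r ↥(coreTwo M₂ M₁) :=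
        h.symm.isPGroup_coreTwo (h.pCoreOf_ne_bot hbot)
      have hU : ⁅K, Cfsg.pCoreOf r M₁ ⊓ M₂⁆ = ⊥ := by
        refine Components.commutator_eq_bot_of_perfect_of_le hperf
          (Z := Cfsg.pCoreOf r M₂) ?_ ?_
        · rw [commutator_comm]
          exact commutator_le.mpr fun u hu k hk => commutator_mem_pCoreOf hu (hKB hk)
        · rw [commutator_comm]
          have h2 := Components.map_subtype_commutator_eq_bot
            (Components.IsComponent.commutator_solvable (H := Cfsg.pCore r ↥M₂) hK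
              (haveI := (Cores.isPGroup_pCore r ↥M₂).isNilpotent; inferInstance)
              (haveI := Cores.pCore_normal r ↥M₂; le_normalizer_of_normal))
          rwa [map_subgroupOf_eq_of_le hK2] at h2
      refine centralizes_of_coprime_generators (r := r) hperf fun y hy hco => ?_
      refine Coprime.thompson_pq r (P := coreTwo M₂ M₁) (Q := zpowers y)
        (U := Cfsg.pCoreOf r M₁) hB2r (by rwa [Nat.card_zpowers]) (isPGroup_pCoreOf r M₁) ?_ ?_ ?_
        ?_ (mem_zpowers y)
      · rw [le_centralizer_iff, zpowers_le]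
        exact centralizer_le (SetLike.coe_subset_coe.mpr
          ((coreTwo_le M₂ M₁).trans inf_le_right)) (hCA hy)
      · exact (((coreTwo_le M₂ M₁).trans inf_le_right).trans (coreOne_le_left _ _)).trans
          (le_normalizer_pCoreOf r M₁)
      · rw [zpowers_le]
        exact le_normalizer_pCoreOf r M₁ (hK1 hy)
      · rintro x ⟨hxQ, hxC⟩
        have hxM : x ∈ M₂ := by
          rw [← h.normalizer_right _ hB (relCore_le_left _ _) (le_normalizer_relCore _ _)]
          exact centralizer_le_normalizer _ hxC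
        have hy' : zpowers y ≤ centralizer ((Cfsg.pCoreOf r M₁ ⊓ M₂ : Subgroup G) : Set G) :=
          (zpowers_le.mpr hy).trans (commutator_eq_bot_iff_le_centralizer.mp hU)
        exact le_centralizer_iff.mp hy' (mem_inf.mpr ⟨hxQ, hxM⟩)
    have hcen : K.subgroupOf M₁ ≤
        centralizer (Cfsg.generalizedFittingSubgroup ↥M₁ : Set ↥M₁) := by
      rw [le_centralizer_iff, Cfsg.generalizedFittingSubgroup]
      have pull : ∀ S : Subgroup ↥M₁, K ≤ centralizer ((S.map M₁.subtype : Subgroup G) : Set G) →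
          S ≤ centralizer ((K.subgroupOf M₁ : Subgroup ↥M₁) : Set ↥M₁) := fun S hS s hs k hk =>
        Subtype.ext (le_centralizer_iff.mp hS (mem_map_of_mem M₁.subtype hs) (k : G) hk)
      have hl : Cfsg.layer ↥M₁ ≤ centralizer ((K.subgroupOf M₁ : Subgroup ↥M₁) : Set ↥M₁) :=
        pull _ (hCA.trans (centralizer_le (SetLike.coe_subset_coe.mpr hE₁)))
      have hf : Cfsg.fittingSubgroup ↥M₁ ≤
          centralizer ((K.subgroupOf M₁ : Subgroup ↥M₁) : Set ↥M₁) := by
        rw [Cores.fittingSubgroup_eq_iSup_pCore]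
        exact iSup_le fun q => pull _ (hQ q q.2)
      exact sup_le hl hf
    have hle := hcen.trans Components.centralizer_genFitting_le_fitting
    haveI : Group.IsSolvable ↥(Cfsg.fittingSubgroup ↥M₁) := Components.fitting_isSolvable
    haveI : Group.IsSolvable ↥(K.subgroupOf M₁) :=
      solvable_of_solvable_injective (Subgroup.inclusion_injective hle)
    refine Components.IsComponent.not_le_of_isSolvable hK (H := K.subgroupOf M₂) ?_ le_rfl
    exact solvable_of_solvable_injective (f := ((subgroupOfEquivOfLe hK2).trans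
      (subgroupOfEquivOfLe hK1).symm).toMonoidHom) (MulEquiv.injective _)
  have heq : layerOf M₂ = layerOf M₁ := eq_of_le_of_card_ge key h.card_layerOf.ge
  by_contra hne
  have hne' : layerOf M₁ ≠ ⊥ := fun h0 =>
    hne (map_injective (subtype_injective M₁) (h0.trans (Subgroup.map_bot _).symm))
  apply h.ne
  rw [← h.normalizer_left _ hne' (map_subtype_le _) (le_normalizer_layerOf M₁), ← heq,
    h.normalizer_right (layerOf M₂) (by rw [heq]; exact hne') (map_subtype_le _)
      (le_normalizer_layerOf M₂)]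

theorem Pair.exists_prime_left [Finite G] (h : Pair M₁ M₂) (hA : coreTwo M₁ M₂ ≠ ⊥)
    (hB : coreTwo M₂ M₁ ≠ ⊥) :
    ∃ p : ℕ, p.Prime ∧ IsPGroup p ↥(coreTwo M₁ M₂ ⊔ coreTwo M₂ M₁) ∧
      Cfsg.generalizedFittingSubgroup ↥M₁ = Cfsg.pCore p ↥M₁ ∧
      Cfsg.generalizedFittingSubgroup ↥(coreOne M₁ M₂) = Cfsg.pCore p ↥(coreOne M₁ M₂) := by
  have hE := h.layer_eq_bot hA hB
  have hF := Components.genFitting_eq_fitting_of_layer_eq_bot hE
  obtain ⟨p, hp, hpQ⟩ : ∃ p : ℕ, p.Prime ∧ Cfsg.pCoreOf p M₁ ≠ ⊥ := by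
    by_contra hno
    push_neg at hno
    apply hA
    have hFbot : Cfsg.generalizedFittingSubgroup ↥M₁ = ⊥ := by
      rw [hF, Cores.fittingSubgroup_eq_iSup_pCore, iSup_eq_bot]
      exact fun q => map_injective (subtype_injective M₁)
        ((hno q q.2).trans (Subgroup.map_bot _).symm)
    rw [eq_bot_iff]
    intro x hx
    have hxM := relCore_le_left _ _ hx
    have := Components.centralizer_genFitting_le (G := ↥M₁)
      (show (⟨x, hxM⟩ : ↥M₁) ∈ centralizer (Cfsg.generalizedFittingSubgroup ↥M₁ : Set ↥M₁) from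
        fun y hy => by
          rw [hFbot, SetLike.mem_coe, mem_bot] at hy
          rw [hy, one_mul, mul_one])
    rw [hFbot, mem_bot] at this
    exact mem_bot.mpr (congrArg Subtype.val this)
  haveI : Fact p.Prime := ⟨hp⟩
  have hA2 := h.isPGroup_coreTwo hpQ
  have hB2 := h.symm.isPGroup_coreTwo (h.pCoreOf_ne_bot hpQ)
  have hFp : Cfsg.generalizedFittingSubgroup ↥M₁ = Cfsg.pCore p ↥M₁ := by
    refine le_antisymm ?_ ((Cores.pCore_le_fittingSubgroup p).trans Components.fitting_le_genFitting)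
    rw [hF, Cores.fittingSubgroup_eq_iSup_pCore]
    refine iSup_le fun q => ?_
    haveI : Fact (q : ℕ).Prime := ⟨q.2⟩
    by_cases hq : Cfsg.pCoreOf (q : ℕ) M₁ = ⊥
    · exact ((map_injective (subtype_injective M₁)
        (hq.trans (Subgroup.map_bot _).symm)).le).trans bot_le
    · rw [eq_of_isPGroup hA (h.isPGroup_coreTwo hq) hA2]
  refine ⟨p, hp, hA2.to_sup_of_normal_right' hB2 ?_, hFp, ?_⟩
  · exact (((coreTwo_le M₁ M₂).trans inf_le_right).trans (coreOne_le_left _ _)).trans
      (le_normalizer_relCore _ _)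
  · set N := (coreOne M₁ M₂).subgroupOf M₁ with hN
    haveI : N.Normal := normal_subgroupOf_of_le_normalizer (le_normalizer_relCore _ _)
    have h1 : Cfsg.generalizedFittingSubgroup ↥N = Cfsg.pCore p ↥N :=
      map_injective (subtype_injective N) <| by
        rw [← Components.genFitting_inf_of_normal, hFp, Cores.pCore_map_subtype]
    rw [← Components.genFitting_map_equiv (subgroupOfEquivOfLe (coreOne_le_left M₁ M₂)),
      ← Cores.pCore_map_mulEquiv (subgroupOfEquivOfLe (coreOne_le_left M₁ M₂)) p, h1]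

/-- The Thompson–Wielandt theorem. -/
theorem Pair.exists_prime [Finite G] (h : Pair M₁ M₂) (hA : coreTwo M₁ M₂ ≠ ⊥)
    (hB : coreTwo M₂ M₁ ≠ ⊥) :
    ∃ p : ℕ, p.Prime ∧ IsPGroup p ↥(coreTwo M₁ M₂ ⊔ coreTwo M₂ M₁) ∧
      Cfsg.generalizedFittingSubgroup ↥M₁ = Cfsg.pCore p ↥M₁ ∧
      Cfsg.generalizedFittingSubgroup ↥(coreOne M₁ M₂) = Cfsg.pCore p ↥(coreOne M₁ M₂) ∧
      Cfsg.generalizedFittingSubgroup ↥M₂ = Cfsg.pCore p ↥M₂ ∧
      Cfsg.generalizedFittingSubgroup ↥(coreOne M₂ M₁) = Cfsg.pCore p ↥(coreOne M₂ M₁) := by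
  obtain ⟨p, hp, hpg, h1, h2⟩ := h.exists_prime_left hA hB
  obtain ⟨q, hq, hqg, h3, h4⟩ := h.symm.exists_prime_left hB hA
  haveI : Fact p.Prime := ⟨hp⟩
  haveI : Fact q.Prime := ⟨hq⟩
  obtain rfl : p = q := eq_of_isPGroup hA (hpg.to_le le_sup_left) (hqg.to_le le_sup_right)
  exact ⟨p, hp, hpg, h1, h2, h3, h4⟩

/-- Two distinct conjugate maximal subgroups with trivial core form a primitive pair. -/
theorem Pair.of_isCoatom (hmax : IsCoatom M₁) (hcore : M₁.normalCore = ⊥) {g : G}
    (hconj : M₂ = M₁.map (MulAut.conj g).toMonoidHom) (hne : M₁ ≠ M₂) : Pair M₁ M₂ := by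
  have hno : ∀ X : Subgroup G, X.Normal → X ≤ M₁ → X = ⊥ := fun X hX hle =>
    le_bot_iff.mp (hcore ▸ normal_le_normalCore.mpr hle)
  refine ⟨fun X hX hXM hn => ?_, fun X hX hXM hn => ?_, ⟨g, hconj⟩, hne⟩
  · rcases hmax.le_iff.mp hn with h | h
    · exact absurd (hno X (normalizer_eq_top_iff.mp h) hXM) hX
    · exact h
  · subst hconj
    set φ := MulAut.conj g
    set Y := X.map φ.symm.toMonoidHom with hY
    have hXY : X = Y.map φ.toMonoidHom := by
      rw [hY, map_map]
      ext x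
      simp
    have hYM : Y ≤ M₁ := by
      rw [hY, map_le_iff_le_comap]
      refine hXM.trans ?_
      rintro _ ⟨m, hm, rfl⟩
      simpa using hm
    have hnY : M₁ ≤ normalizer (Y : Set G) := fun m hm => by
      refine mem_normalizer_iff.mpr fun y => ?_
      have h := mem_normalizer_iff.mp (hn (mem_map_of_mem φ.toMonoidHom hm)) (φ y)
      rw [hXY] at h
      have e : ∀ z : G, φ z ∈ Y.map φ.toMonoidHom ↔ z ∈ Y := fun z =>
        mem_map_iff_mem (f := φ.toMonoidHom) φ.injective
      have e2 : φ m * φ y * (φ m)⁻¹ = φ (m * y * m⁻¹) := by simp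
      simp only [MulEquiv.coe_toMonoidHom] at h
      rwa [e2, e, e] at h
    have hY1 : Y ≠ ⊥ := fun h0 => hX (by rw [hXY, h0, Subgroup.map_bot])
    rcases hmax.le_iff.mp hnY with h | h
    · exact absurd (hno Y (normalizer_eq_top_iff.mp h) hYM) hY1
    · rw [hXY, ← h]
      exact (map_equiv_normalizer_eq Y φ).symm

end Cfsg.Agent.ThompsonWielandt
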