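/-
Primitive groups with a suborbit of length three (Sims, Wong):
`stabilizer_structure` gives the five possible point stabilizers.
-/
import Cfsg.Agent.Lib.ThompsonWielandt.Cubic
import Cfsg.Agent.Lib.PSL2.Groups

namespace Cfsg.Agent.ThompsonWielandt.Cubic

open Subgroup MulAction
open scoped Pointwise

variable {G : Type*} [Group G] [Finite G]

theorem isPGroup_two_inf {H M : Subgroup G} (h : Pair H M) (h1 : M.relIndex H = 3)
    (h2 : H.relIndex M = 3) : IsPGroup 2 ↥(H ⊓ M : Subgroup G) := by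
  set D := H ⊓ M with hD
  have hsmall : ∀ X Y : Subgroup G, Y.relIndex X = 3 → (coreOne X Y).relIndex (X ⊓ Y) ∣ 2 := by
    intro X Y hi
    have ha := relIndex_coreOne_dvd X Y
    rw [hi, ← relIndex_mul_relIndex (coreOne X Y) (X ⊓ Y) X
      (le_inf (coreOne_le_left X Y) (coreOne_le_right X Y)) inf_le_left, inf_relIndex_left, hi,
      show Nat.factorial 3 = 2 * 3 from rfl] at ha
    exact Nat.dvd_of_mul_dvd_mul_right (by norm_num) ha
  have hodd : ∀ X Y : Subgroup G, Y.relIndex X = 3 → ∀ g ∈ X ⊓ Y, Odd (orderOf g) →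
      g ∈ coreOne X Y := by
    intro X Y hi g hg ho
    rcases (Nat.dvd_prime Nat.prime_two).mp (hsmall X Y hi) with e | e
    · exact relIndex_eq_one.mp e hg
    · by_contra hgA
      rcases mem_or_mul_mem e hg hgA hg with h' | h'
      · exact hgA h'
      · obtain ⟨k, hk⟩ := ho
        apply hgA
        have : g = (g * g) ^ (k + 1) := by
          rw [← sq, ← pow_mul, show 2 * (k + 1) = orderOf g + 1 by omega, pow_succ,
            pow_orderOf_eq_one, one_mul]
        rw [this]
        exact pow_mem h' _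
  set X := closure {g | g ∈ D ∧ Odd (orderOf g)} with hX
  have hXA : ∀ (A B : Subgroup G), B.relIndex A = 3 → A ⊓ B = D → A ≤ normalizer (X : Set G) := by
    intro A B hi hAB k hk
    refine Cores.conj_smul_eq_self_iff.mp (eq_of_le_of_card_ge ?_ (card_smul k X).ge)
    rw [conj_smul_eq_map, map_le_iff_le_comap, hX, closure_le]
    rintro g ⟨hg, ho⟩
    refine subset_closure ⟨hAB ▸ ?_, ?_⟩
    · exact le_inf (coreOne_le_left A B) (coreOne_le_right A B)
        ((mem_normalizer_iff.mp (le_normalizer_relCore _ _ hk) g).mp (hodd A B hi g (hAB ▸ hg) ho))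
    · rwa [show (MulAut.conj k).toMonoidHom g = MulAut.conj k g from rfl, MulEquiv.orderOf_eq]
  have hXD : X ≤ D := (closure_le _).mpr fun g hg => hg.1
  have hX0 : X = ⊥ := by
    by_contra hne
    exact h.ne ((h.normalizer_left X hne (hXD.trans inf_le_left) (hXA H M h1 rfl)).symm.trans
      (h.normalizer_right X hne (hXD.trans inf_le_right) (hXA M H h2 (inf_comm M H))))
  rintro ⟨g, hg⟩
  obtain ⟨k, m, hm, hkm⟩ := Nat.exists_eq_two_pow_mul_odd (orderOf_pos g).ne'
  refine ⟨k, Subtype.ext ?_⟩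
  have : g ^ 2 ^ k ∈ X := subset_closure ⟨D.pow_mem hg _, by
    rw [orderOf_pow, hkm, Nat.gcd_mul_right_left, Nat.mul_div_cancel_left _ (by positivity)]
    exact hm⟩
  rw [hX0, mem_bot] at this
  exact this

/-- The five possible stabilizers of a primitive pair of index three. -/
theorem pair_structure {H M : Subgroup G} (h : Pair H M) (hgen : H ⊔ M = ⊤)
    (h1 : M.relIndex H = 3) (h2 : H.relIndex M = 3) :
    Nonempty (↥H ≃* Multiplicative (ZMod 3)) ∨ Nonempty (↥H ≃* Equiv.Perm (Fin 3)) ∨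
      Nonempty (↥H ≃* DihedralGroup 6) ∨ Nonempty (↥H ≃* Equiv.Perm (Fin 4)) ∨
      Nonempty (↥H ≃* Equiv.Perm (Fin 4) × Multiplicative (ZMod 2)) := by
  haveI : Fact (Nat.Prime 2) := ⟨Nat.prime_two⟩
  haveI : Fact (Nat.Prime 3) := ⟨Nat.prime_three⟩
  set D := H ⊓ M with hD
  have hDp := isPGroup_two_inf h h1 h2
  have hbot : ∀ X : Subgroup G, X ≤ D → H ≤ normalizer (X : Set G) → M ≤ normalizer (X : Set G) →
      X = ⊥ := fun X hX hH hM => by
    by_contra hne
    exact h.ne ((h.normalizer_left X hne (hX.trans inf_le_left) hH).symm.trans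
      (h.normalizer_right X hne (hX.trans inf_le_right) hM))
  have hHD : IsSyl D H := ⟨inf_le_left, hDp, by rw [hD, inf_relIndex_left, h1]⟩
  have hMD : IsSyl D M := ⟨inf_le_right, hDp, by rw [hD, inf_relIndex_right, h2]⟩
  have hQle : ∀ {A : Subgroup G}, IsSyl D A → Q A ≤ D := fun {A} hA => by
    have hn : D ≤ normalizer (Q A : Set G) := hA.1.trans (le_normalizer_pCoreOf 2 A)
    exact le_sup_right.trans (eq_of_two_group (le_sup_left : D ≤ D ⊔ Q A)
      (sup_le hA.1 (pCoreOf_le 2 A))
      (hA.2.1.to_sup_of_normal_right' (isPGroup_pCoreOf 2 A) hn) hA.2.2).le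
  have hQD := hQle hHD
  have hQD' := hQle hMD
  have hQcore : coreOne H M = Q H := le_antisymm
    (le_pCoreOf (coreOne_le_left _ _) (hDp.to_le (le_inf (coreOne_le_left _ _) (coreOne_le_right _ _)))
      (isSubnormal_subgroupOf_of_normal (le_normalizer_relCore _ _)))
    (le_coreOne (pCoreOf_le 2 H) (hQD.trans inf_le_right) (le_normalizer_pCoreOf 2 H))
  have hdvd : (Q H).relIndex D ∣ 2 := by
    have ha := relIndex_coreOne_dvd H M
    rw [hQcore, h1, ← relIndex_mul_relIndex (Q H) D H hQD inf_le_left, hHD.2.2,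
      show Nat.factorial 3 = 2 * 3 from rfl] at ha
    exact Nat.dvd_of_mul_dvd_mul_right (by norm_num) ha
  have hcH := relIndex_mul_card hHD.1
  rw [hHD.2.2] at hcH
  have hcM := relIndex_mul_card hMD.1
  rw [hMD.2.2] at hcM
  have hcQ := relIndex_mul_card hQD
  rcases (Nat.dvd_prime Nat.prime_two).mp hdvd with hr | hr
  · -- the edge group is normal on both sides
    left
    rw [hr, one_mul] at hcQ
    have e1 : Q H = D := eq_of_le_of_card_ge hQD hcQ.ge
    have e2 : Q M = D := eq_of_le_of_card_ge hQD' (by rw [h.card_pCoreOf 2]; exact hcQ.ge)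
    have h0 : D = ⊥ := hbot D le_rfl (e1 ▸ le_normalizer_pCoreOf 2 H)
      (e2 ▸ le_normalizer_pCoreOf 2 M)
    rw [h0, card_bot] at hcH
    exact ⟨mulEquivOfPrimeCardEq (p := 3) hcH.symm (by simp)⟩
  right
  rw [hr] at hcQ
  have hcard : Nat.card ↥H = 6 * Nat.card ↥(Q H) := by omega
  by_cases hcons : H ⊓ centralizer (Q H : Set G) ≤ Q H
  · -- the constrained case
    right; right
    have hv : Vert H := ⟨h.normalizer_left, hcard, hcons⟩
    obtain ⟨g, hg⟩ := h.conjugate
    have hv' : Vert M := hg ▸ hv.smul g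
    obtain ⟨⟨e⟩, hC⟩ := exists_mulEquiv (⟨hv, hv', h.ne, h1, ⟨g, hg⟩⟩ : Edge H M) hgen
    have hpos := Nat.card_pos (α := ↥(C H))
    interval_cases hc : Nat.card ↥(C H)
    · left
      haveI : Subsingleton ↥(C H) := (Nat.card_eq_one_iff_unique.mp hc).1
      haveI : Unique ↥(C H) := uniqueOfSubsingleton 1
      exact ⟨e.trans MulEquiv.prodUnique⟩
    · right
      exact ⟨e.trans (MulEquiv.prodCongr (MulEquiv.refl _)
        (mulEquivOfPrimeCardEq (p := 2) hc (by simp)))⟩
  -- a 3-element centralising `O₂`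
  set J := H ⊓ centralizer (Q H : Set G) with hJ
  have hJn : H ≤ normalizer (J : Set G) := by
    refine le_trans (le_inf le_normalizer ?_) inf_normalizer_le_normalizer_inf
    intro k hk
    refine Coprime.mem_normalizer_of_forall fun z hz q hq => ?_
    have hq' : k⁻¹ * q * k ∈ Q H := by
      have := (mem_normalizer_iff.mp (le_normalizer_pCoreOf 2 H (H.inv_mem hk)) q).mp hq
      rwa [inv_inv] at this
    calc q * (k * z * k⁻¹) = k * (k⁻¹ * q * k * z) * k⁻¹ := by group
      _ = k * (z * (k⁻¹ * q * k)) * k⁻¹ := by rw [hz _ hq']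
      _ = k * z * k⁻¹ * q := by group
  obtain ⟨n, hn⟩ := IsPGroup.iff_card.mp (isPGroup_pCoreOf 2 H)
  have h3J : 3 ∣ Nat.card ↥J := by
    by_contra h3
    apply hcons
    refine le_pCoreOf inf_le_left ?_ (isSubnormal_subgroupOf_of_normal hJn)
    have hdv : Nat.card ↥J ∣ 3 * 2 ^ (n + 1) := by
      rw [show 3 * 2 ^ (n + 1) = 6 * 2 ^ n by ring, ← hn, ← hcard]
      exact Subgroup.card_dvd_of_le inf_le_left
    have hd2 := ((Nat.prime_three.coprime_iff_not_dvd.mpr h3).symm).dvd_of_dvd_mul_left hdv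
    obtain ⟨m, -, hm⟩ := (Nat.dvd_prime_pow Nat.prime_two).mp hd2
    exact IsPGroup.of_card hm
  obtain ⟨⟨x, hxJ⟩, hx⟩ := exists_prime_orderOf_dvd_card' 3 h3J
  rw [Subgroup.orderOf_mk] at hx
  obtain ⟨g, hg⟩ := h.conjugate
  change M = MulAut.conj g • H at hg
  have hxD : ∀ {z : G}, orderOf z = 3 → z ∉ D := fun {z} hz hzD => by
    have := Vert.eq_one_of_pow_three hDp hzD (hz ▸ pow_orderOf_eq_one z)
    rw [this, orderOf_one] at hz
    omega
  have hy : orderOf (g * x * g⁻¹) = 3 := by
    rw [show g * x * g⁻¹ = MulAut.conj g x from rfl, MulEquiv.orderOf_eq, hx]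
  have hyM : g * x * g⁻¹ ∈ M := hg ▸ conj_mem hxJ.1
  -- `O₂(H) ∩ O₂(M) = 1`
  have hgen3 : ∀ {A : Subgroup G}, IsSyl D A → ∀ z ∈ A, orderOf z = 3 → ∀ X : Subgroup G,
      D ≤ normalizer (X : Set G) → z ∈ centralizer (X : Set G) → A ≤ normalizer (X : Set G) := by
    intro A hA z hzA hz X hX hzX
    rcases eq_or_eq_of_relIndex_three (le_inf hA.1 hX : D ≤ A ⊓ normalizer (X : Set G)) inf_le_left
      hA.2.2 with e | e
    · exact absurd (e.le ⟨hzA, centralizer_le_normalizer _ hzX⟩) (hxD hz)
    · exact e.ge.trans inf_le_right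
  set R := Q H ⊓ Q M with hR
  have hRD : D ≤ normalizer (R : Set G) := fun d hd => inf_normalizer_le_normalizer_inf
    ⟨le_normalizer_pCoreOf 2 H hd.1, le_normalizer_pCoreOf 2 M hd.2⟩
  have hR0 : R = ⊥ := by
    refine hbot R (inf_le_left.trans hQD)
      (hgen3 hHD x hxJ.1 hx R hRD fun r hr => hxJ.2 r hr.1) (hgen3 hMD _ hyM hy R hRD ?_)
    intro r hr
    have hr' : g⁻¹ * r * g ∈ Q H := by
      have := hr.2
      rw [hg, smul_Q] at this
      exact Cores.mem_conj_smul.mp this
    calc r * (g * x * g⁻¹) = g * (g⁻¹ * r * g * x) * g⁻¹ := by group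
      _ = g * (x * (g⁻¹ * r * g)) * g⁻¹ := by rw [hxJ.2 _ hr']
      _ = g * x * g⁻¹ * r := by group
  have hMr : (Q M).relIndex D = 2 := by
    have := relIndex_mul_card hQD'
    rw [show Nat.card ↥(Q M) = Nat.card ↥(Q H) from h.card_pCoreOf 2, ← hcQ] at this
    exact Nat.eq_of_mul_eq_mul_right Nat.card_pos this
  have hQ2 : Nat.card ↥(Q H) ≤ 2 := by
    have ha := relIndex_mul_card_inf (Q M) (Q H)
    rw [inf_comm, ← hR, hR0, card_bot, mul_one] at ha
    rw [← ha, ← hMr]
    exact relIndex_le_of_le_right hQD index_ne_zero_of_finite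
  have hpos := Nat.card_pos (α := ↥(Q H))
  interval_cases hcQH : Nat.card ↥(Q H)
  · -- `S₃`
    left
    let f := MulAction.toPermHom ↥H (↥H ⧸ M.subgroupOf H)
    have hker : f.ker = ⊥ := by
      rw [← normalCore_eq_ker, ← (map_injective (subtype_injective H)).eq_iff, Subgroup.map_bot]
      have h0 : coreOne H M = ⊥ := by rw [hQcore]; exact Subgroup.card_eq_one.mp hcQH
      rw [← h0, coreOne, relCore, inf_subgroupOf_left]
    have hfin : Nat.card (↥H ⧸ M.subgroupOf H) = 3 := h1
    have hcp : Nat.card ↥H = Nat.card (Equiv.Perm (↥H ⧸ M.subgroupOf H)) := by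
      rw [Nat.card_perm, hfin, show Nat.factorial 3 = 6 from rfl]
      omega
    have hbij : Function.Bijective f :=
      (Nat.bijective_iff_injective_and_card f).mpr ⟨(MonoidHom.ker_eq_bot_iff f).mp hker, hcp⟩
    exact ⟨(MulEquiv.ofBijective f hbij).trans (Finite.equivFinOfCardEq hfin).permCongrHom⟩
  · -- dihedral of order twelve
    right; left
    obtain ⟨q, hq, hq1⟩ : ∃ q ∈ Q H, q ≠ 1 :=
      (Q H).bot_or_exists_ne_one.resolve_left fun e => by
        rw [e, card_bot] at hcQH; omega
    obtain ⟨t, ht, ht1⟩ : ∃ t ∈ Q M, t ≠ 1 :=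
      (Q M).bot_or_exists_ne_one.resolve_left fun e => by
        have := h.card_pCoreOf 2
        rw [hcQH] at this
        change Nat.card ↥(Q M) = 2 at this
        rw [e, card_bot] at this; omega
    have ord2 : ∀ {A : Subgroup G} {z : G}, Nat.card ↥A = 2 → z ∈ A → z ≠ 1 → orderOf z = 2 := by
      intro A z hA hz hz1
      have hd := orderOf_dvd_natCard (⟨z, hz⟩ : ↥A)
      rw [hA, Subgroup.orderOf_mk] at hd
      rcases (Nat.dvd_prime Nat.prime_two).mp hd with e | e
      · exact absurd (orderOf_eq_one_iff.mp e) hz1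
      · exact e
    have hQMcard : Nat.card ↥(Q M) = 2 := by
      show Nat.card ↥(Cfsg.pCoreOf 2 M) = 2
      rw [h.card_pCoreOf 2]; exact hcQH
    have hoq := ord2 hcQH hq hq1
    have hot := ord2 hQMcard ht ht1
    have htH : t ∈ H := (hQD' ht).1
    have hnc : t * x ≠ x * t := by
      intro hc
      apply ht1
      have hz : zpowers t = Q M := eq_of_le_of_card_ge (zpowers_le.mpr ht)
        (by rw [hQMcard, Nat.card_zpowers, hot])
      have hQM0 : Q M = ⊥ := by
        refine hbot _ hQD' (hgen3 hHD x hxJ.1 hx _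
          (inf_le_right.trans (le_normalizer_pCoreOf 2 M)) ?_) (le_normalizer_pCoreOf 2 M)
        rw [← hz]
        intro r hr
        obtain ⟨i, rfl⟩ := mem_zpowers_iff.mp hr
        exact (Commute.zpow_left hc i).eq
      rwa [hQM0, mem_bot] at ht
    have hxq : Commute x q := (hxJ.2 q hq).symm
    set c := x * q with hc
    have hoc : orderOf c = 6 := by
      rw [hc, hxq.orderOf_mul_eq_mul_orderOf_of_coprime (by rw [hx, hoq]; decide), hx, hoq]
    have hcH' : c ∈ H := H.mul_mem hxJ.1 (pCoreOf_le 2 H hq)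
    have htcomm : t * c ≠ c * t := by
      intro e
      apply hnc
      have hx4 : c ^ 4 = x := by
        rw [hc, hxq.mul_pow, pow_succ x 3, ← hx, pow_orderOf_eq_one, one_mul,
          show 4 = 2 * 2 from rfl, pow_mul, ← hoq, pow_orderOf_eq_one, one_pow, mul_one]
      rw [← hx4]
      exact (Commute.pow_right e 4).eq
    refine PSL2.mulEquiv_dihedral (n := 6) (by omega) (by norm_num) ⟨c, hcH'⟩ ⟨t, htH⟩
      (by rw [Subgroup.orderOf_mk, hoc]) (by rw [Subgroup.orderOf_mk, hot]) ?_ ?_
    · have hidx : (zpowers (⟨c, hcH'⟩ : ↥H)).index = 2 := by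
        have := card_mul_index (zpowers (⟨c, hcH'⟩ : ↥H))
        rw [Nat.card_zpowers, Subgroup.orderOf_mk, hoc] at this
        omega
      haveI := normal_of_index_eq_two hidx
      have hmem := Normal.conj_mem inferInstance (⟨c, hcH'⟩ : ↥H) (mem_zpowers _) ⟨t, htH⟩
      rw [mem_zpowers_iff] at hmem
      obtain ⟨i, hi⟩ := hmem
      have hi' : c ^ i = t * c * t⁻¹ := congrArg Subtype.val hi
      have htinv : t⁻¹ = t := inv_eq_of_mul_eq_one_right (by
        rw [← sq, ← hot, pow_orderOf_eq_one])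
      refine Subtype.ext ?_
      show t * c * t = c⁻¹
      conv_lhs => arg 2; rw [← htinv]
      rw [← hi', ← zpow_mod_orderOf c i, hoc, Nat.cast_ofNat]
      have h0 : 0 ≤ i % 6 := Int.emod_nonneg i (by norm_num)
      have h6 : i % 6 < 6 := Int.emod_lt_of_pos i (by norm_num)
      have hord : orderOf (c ^ (i % 6)) = 6 := by
        have : c ^ (i % 6) = MulAut.conj t c := by
          rw [show (6 : ℤ) = ((orderOf c : ℕ) : ℤ) by rw [hoc]; rfl, zpow_mod_orderOf, hi']
          rfl
        rw [this, MulEquiv.orderOf_eq, hoc]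
      obtain ⟨j, hj⟩ := Int.eq_ofNat_of_zero_le h0
      push_cast at hj
      rw [hj] at hord h6 ⊢
      rw [zpow_natCast] at hord ⊢
      have hj6 : j < 6 := by omega
      rw [orderOf_pow, hoc] at hord
      have hne1 : j ≠ 1 := by
        rintro rfl
        apply htcomm
        have e : c = t * c * t⁻¹ := by
          rw [← hi', ← zpow_mod_orderOf c i, hoc]
          push_cast
          rw [hj, zpow_natCast, pow_one]
        calc t * c = t * c * t⁻¹ * t := by group
          _ = c * t := by rw [← e]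
      interval_cases j <;> first
        | exact absurd rfl hne1
        | (exfalso; norm_num at hord; done)
        | exact eq_inv_of_mul_eq_one_left (by rw [← pow_succ, show 5 + 1 = orderOf c from hoc.symm, pow_orderOf_eq_one])
    · intro hm
      obtain ⟨i, hi⟩ := mem_zpowers_iff.mp hm
      apply htcomm
      have hi' : c ^ i = t := congrArg Subtype.val hi
      rw [← hi']
      exact (Commute.zpow_self c i).eq

variable {Ω : Type*} [MulAction G Ω] [FaithfulSMul G Ω]

/-- The stabilizers in a primitive group with a suborbit of length three. -/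
theorem stabilizer_structure (hprim : IsPreprimitive G Ω) (a b : Ω)
    (h3 : Nat.card (orbit (stabilizer G a) b) = 3) :
    Nonempty (stabilizer G a ≃* Multiplicative (ZMod 3)) ∨
      Nonempty (stabilizer G a ≃* Equiv.Perm (Fin 3)) ∨
      Nonempty (stabilizer G a ≃* DihedralGroup 6) ∨
      Nonempty (stabilizer G a ≃* Equiv.Perm (Fin 4)) ∨
      Nonempty (stabilizer G a ≃* Equiv.Perm (Fin 4) × Multiplicative (ZMod 2)) := by
  haveI := hprim.toIsPretransitive
  haveI : Nonempty Ω := ⟨a⟩
  haveI : Finite Ω := Finite.of_surjective (fun g : G => g • a) (exists_smul_eq G a)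
  have hab := ne_of_two_le (d := 3) h3 (by norm_num)
  have hP := Pair.of_primitive hprim hab
  have h1 : (stabilizer G b).relIndex (stabilizer G a) = 3 := relIndex_stabilizer h3
  have h2 : (stabilizer G a).relIndex (stabilizer G b) = 3 := by
    rw [relIndex_stabilizer_symm]; exact h1
  haveI : Nontrivial Ω := ⟨⟨a, b, fun e => hab (e ▸ le_rfl)⟩⟩
  have hmax := (isCoatom_stabilizer_iff_preprimitive (G := G) a).mpr hprim
  have hgen : stabilizer G a ⊔ stabilizer G b = ⊤ := by
    refine hmax.2 _ (lt_of_le_of_ne le_sup_left fun e => ?_)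
    have hle : stabilizer G b ≤ stabilizer G a := le_sup_right.trans e.ge
    rw [relIndex_eq_one.mpr hle] at h2
    omega
  exact pair_structure hP hgen h1 h2

end Cfsg.Agent.ThompsonWielandt.Cubic
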