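import Cfsg.Agent.Lib.ThompsonWielandt.BigHom
import Cfsg.Agent.Lib.ThompsonWielandt.Suborbit

/-!
# A suborbit on which the stabiliser induces the alternating or symmetric group

`Rep M N n`: the action of `M` on the `n + 1` cosets of `M ∩ N`. `exists_embedding`: if it contains
`A_{n+1}`, `n ≥ 5`, and is not faithful (primitive pair), then `M ↪ S_{n+1} × S_n` with image
containing `A_{n+1} × A_n`.
-/

set_option autoImplicit false

namespace Cfsg.Agent.ThompsonWielandt

open Subgroup Equiv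
open scoped Pointwise

variable {G : Type*} [Group G]

theorem le_normalizer_conj {X H : Subgroup G} {c : G} (hc : c ∈ normalizer (X : Set G))
    (h : X ≤ normalizer (H : Set G)) : X ≤ normalizer ((MulAut.conj c • H : Subgroup G) : Set G) := by
  intro x hx
  rw [mem_normalizer_iff]
  intro y
  rw [Cores.mem_conj_smul, Cores.mem_conj_smul]
  have hx' : c⁻¹ * x * c ∈ normalizer (H : Set G) := h ((mem_normalizer_iff''.mp hc x).mp hx)
  rw [mem_normalizer_iff.mp hx' (c⁻¹ * y * c)]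
  group

theorem conj_le_of_mem_normalizer {X T : Subgroup G} {c : G} (hc : c ∈ normalizer (X : Set G))
    (h : T ≤ X) : ∀ x ∈ T, c⁻¹ * x * c ∈ X := fun x hx => (mem_normalizer_iff''.mp hc x).mp (h hx)

theorem conj_smul_conj (a b : G) (H : Subgroup G) :
    MulAut.conj a • MulAut.conj b • H = MulAut.conj (a * b) • H := by rw [map_mul, mul_smul]

theorem relIndex_conj_smul (c : G) (H K : Subgroup G) :
    (MulAut.conj c • H).relIndex (MulAut.conj c • K) = H.relIndex K :=
  relIndex_map_map_of_injective _ _ (MulAut.conj c).injective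

theorem coreOne_conj (c : G) (M N : Subgroup G) :
    coreOne (MulAut.conj c • M) (MulAut.conj c • N) = MulAut.conj c • coreOne M N := by
  ext x
  simp only [coreOne, mem_relCore, Cores.mem_conj_smul, mem_inf]
  constructor
  · rintro ⟨hx, h⟩
    refine ⟨hx, fun m hm => ?_⟩
    have := h (c * m * c⁻¹) (by simpa [mul_assoc] using hm)
    simpa [mul_assoc] using this
  · rintro ⟨hx, h⟩
    refine ⟨hx, fun m hm => ?_⟩
    have := h (c⁻¹ * m * c) hm
    simpa [mul_assoc] using this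

section Homs

variable {P : Type*} [Group P] {X : Subgroup G}

/-- Restriction. -/
def restrictHom (f : ↥X →* P) {T : Subgroup G} (h : T ≤ X) : ↥T →* P := f.comp (inclusion h)

theorem range_restrictHom (f : ↥X →* P) {T : Subgroup G} (h : T ≤ X) :
    (restrictHom f h).range = fim f T := by
  ext σ
  constructor
  · rintro ⟨x, rfl⟩; exact ⟨inclusion h x, x.2, rfl⟩
  · rintro ⟨x, hx, rfl⟩; exact ⟨⟨(x : G), hx⟩, rfl⟩

theorem kerIn_restrictHom (f : ↥X →* P) {T : Subgroup G} (h : T ≤ X) :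
    kerIn (restrictHom f h) = T ⊓ kerIn f := by
  ext x
  rw [mem_inf, mem_kerIn (f := restrictHom f h), mem_kerIn (f := f)]
  exact ⟨fun ⟨hx, e⟩ => ⟨hx, h hx, e⟩, fun ⟨hx, _, e⟩ => ⟨hx, e⟩⟩

/-- `x ↦ f (c⁻¹ x c)`. -/
def conjHom (f : ↥X →* P) (c : G) {T : Subgroup G} (h : ∀ x ∈ T, c⁻¹ * x * c ∈ X) : ↥T →* P :=
  f.comp (MonoidHom.mk' (fun x : ↥T => (⟨c⁻¹ * (x : G) * c, h x x.2⟩ : ↥X))
    fun a b => Subtype.ext (by simp only [Subgroup.coe_mul]; group))

theorem kerIn_conjHom (f : ↥X →* P) (c : G) {T : Subgroup G} (h : ∀ x ∈ T, c⁻¹ * x * c ∈ X) :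
    kerIn (conjHom f c h) = T ⊓ MulAut.conj c • kerIn f := by
  ext x
  rw [mem_inf, Cores.mem_conj_smul, mem_kerIn (f := conjHom f c h), mem_kerIn (f := f)]
  exact ⟨fun ⟨hx, e⟩ => ⟨hx, h x hx, e⟩, fun ⟨hx, _, e⟩ => ⟨hx, e⟩⟩

theorem range_conjHom (f : ↥X →* P) (c : G) {T : Subgroup G} (h : ∀ x ∈ T, c⁻¹ * x * c ∈ X) :
    (conjHom f c h).range = fim f (MulAut.conj c⁻¹ • T) := by
  ext σ
  constructor
  · rintro ⟨x, rfl⟩
    refine ⟨⟨c⁻¹ * (x : G) * c, h x x.2⟩, ?_, rfl⟩
    rw [SetLike.mem_coe, mem_subgroupOf, Cores.mem_conj_smul]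
    simp [mul_assoc]
  · rintro ⟨x, hx, rfl⟩
    have hx' : c * (x : G) * c⁻¹ ∈ T := by
      rw [SetLike.mem_coe, mem_subgroupOf, Cores.mem_conj_smul, inv_inv] at hx
      exact hx
    refine ⟨⟨_, hx'⟩, ?_⟩
    show f ⟨c⁻¹ * (c * (x : G) * c⁻¹) * c, _⟩ = f x
    congr 1
    ext
    group

end Homs

/-! ### Coset representations -/

/-- The action of `M` on the cosets of `M ∩ N`, the base point being `0`. -/
structure Rep (M N : Subgroup G) (n : ℕ) where
  /-- The homomorphism. -/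
  π : ↥M →* Perm (Fin (n + 1))
  ker_eq : kerIn π = coreOne M N
  fix0 : ∀ m : ↥M, π m 0 = 0 ↔ (m : G) ∈ N
  trans : ∀ i, ∃ m, π m 0 = i

theorem exists_rep [Finite G] {M N : Subgroup G} {n : ℕ} (h : N.relIndex M = n + 1) :
    Nonempty (Rep M N n) := by
  classical
  let Q := ↥M ⧸ N.subgroupOf M
  have hQ : Nat.card Q = n + 1 := h
  let base : Q := ((1 : ↥M) : Q)
  let e₀ : Q ≃ Fin (n + 1) := Finite.equivFinOfCardEq hQ
  let e : Q ≃ Fin (n + 1) := e₀.trans (Equiv.swap (e₀ base) 0)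
  have he : e base = 0 := by simp [e]
  refine ⟨⟨e.permCongrHom.toMonoidHom.comp (MulAction.toPermHom ↥M Q), ?_, fun m => ?_, fun i => ?_⟩⟩
  · have hker : (e.permCongrHom.toMonoidHom.comp (MulAction.toPermHom ↥M Q)).ker =
        (MulAction.toPermHom ↥M Q).ker := by
      ext m
      simp [MonoidHom.mem_ker]
    rw [kerIn, hker, ← normalCore_eq_ker, coreOne, relCore, inf_subgroupOf_left]
  · show e ((MulAction.toPerm m) (e.symm 0)) = 0 ↔ _
    rw [← he, e.symm_apply_apply, e.apply_eq_iff_eq]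
    show ((m * 1 : ↥M) : Q) = ((1 : ↥M) : Q) ↔ _
    rw [mul_one, QuotientGroup.eq, mul_one, inv_mem_iff, mem_subgroupOf]
  · obtain ⟨m, hm⟩ := QuotientGroup.mk_surjective (e.symm i)
    refine ⟨m, ?_⟩
    show e ((MulAction.toPerm m) (e.symm 0)) = i
    rw [← he, e.symm_apply_apply]
    show e ((m * 1 : ↥M) : Q) = i
    rw [mul_one, hm, e.apply_symm_apply]

/-- Conjugate of a representation. -/
def Rep.conj {M N : Subgroup G} {n : ℕ} (R : Rep M N n) (c : G) {M' N' : Subgroup G}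
    (hM : M' = MulAut.conj c • M) (hN : N' = MulAut.conj c • N) : Rep M' N' n where
  π := conjHom R.π c fun x hx => Cores.mem_conj_smul.mp (hM ▸ hx)
  ker_eq := by
    subst hM hN
    rw [kerIn_conjHom, R.ker_eq, coreOne_conj]
    exact inf_eq_right.mpr (pointwise_smul_le_pointwise_smul_iff.mpr (coreOne_le_left M N))
  fix0 m := (R.fix0 _).trans (by subst hN; exact Cores.mem_conj_smul.symm)
  trans i := by
    subst hM
    obtain ⟨m, hm⟩ := R.trans i
    refine ⟨⟨c * (m : G) * c⁻¹, Cores.mem_conj_smul.mpr (by simp [mul_assoc])⟩, ?_⟩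
    rw [← hm]
    show R.π ⟨c⁻¹ * (c * (m : G) * c⁻¹) * c, _⟩ 0 = R.π m 0
    congr 2
    ext
    group

namespace Rep

variable {M N : Subgroup G} {n : ℕ} (R : Rep M N n)

include R in
theorem relIndex_eq : N.relIndex M = n + 1 := by
  let f : ↥M ⧸ N.subgroupOf M → Fin (n + 1) := Quotient.lift (fun m => R.π m 0) fun a b hab => by
    have h : (a⁻¹ * b : ↥M) ∈ N.subgroupOf M := QuotientGroup.leftRel_apply.mp hab
    have h1 := (R.fix0 _).mpr (mem_subgroupOf.mp h)
    rw [map_mul, map_inv, Perm.mul_apply, Perm.inv_eq_iff_eq] at h1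
    exact h1.symm
  have hf : Function.Bijective f := by
    refine ⟨fun p q => ?_, fun i => ?_⟩
    · obtain ⟨a, rfl⟩ := QuotientGroup.mk_surjective p
      obtain ⟨b, rfl⟩ := QuotientGroup.mk_surjective q
      intro e
      refine QuotientGroup.eq.mpr (mem_subgroupOf.mpr ((R.fix0 _).mp ?_))
      rw [map_mul, map_inv, Perm.mul_apply, Perm.inv_eq_iff_eq]
      exact e.symm
    · obtain ⟨m, hm⟩ := R.trans i
      exact ⟨(m : ↥M ⧸ N.subgroupOf M), hm⟩
  show Nat.card (↥M ⧸ N.subgroupOf M) = n + 1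
  rw [Nat.card_eq_of_bijective f hf, Nat.card_fin]

theorem pred_iff (x : ↥(M ⊓ N : Subgroup G)) (i : Fin (n + 1)) :
    R.π (inclusion inf_le_left x) i ≠ 0 ↔ i ≠ 0 := by
  have h0 : R.π (inclusion inf_le_left x) 0 = 0 := (R.fix0 _).mpr x.2.2
  conv_lhs => rw [← h0]
  exact not_congr (R.π _).apply_eq_iff_eq

/-- The action of the two-point stabiliser on the other points. -/
noncomputable def ρ : ↥(M ⊓ N : Subgroup G) →* Perm (Fin n) :=
  (finSuccAboveEquiv (0 : Fin (n + 1))).symm.permCongrHom.toMonoidHom.comp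
    (MonoidHom.mk' (fun x => (R.π (inclusion inf_le_left x)).subtypePerm
      (fun i => R.pred_iff x i)) fun a b => by
        refine Equiv.ext fun i => Subtype.ext ?_
        show R.π (inclusion inf_le_left (a * b)) i.val = _
        rw [map_mul, map_mul]
        rfl)

theorem π_succ (x : ↥(M ⊓ N : Subgroup G)) (i : Fin n) :
    R.π (inclusion inf_le_left x) i.succ = (R.ρ x i).succ := by
  have e : ∀ j : {j : Fin (n + 1) // j ≠ 0},
      ((finSuccAboveEquiv (0 : Fin (n + 1))).symm j).succ = j.val := fun j => by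
    obtain ⟨k, rfl⟩ := (finSuccAboveEquiv (0 : Fin (n + 1))).surjective j
    rw [Equiv.symm_apply_apply]
    simp [finSuccAboveEquiv_apply]
  simp [ρ, Equiv.permCongrHom, Equiv.permCongr_apply, e, finSuccAboveEquiv_apply, Fin.succAbove_zero]

theorem kerIn_ρ : kerIn R.ρ = coreOne M N := by
  rw [← R.ker_eq]
  ext x
  rw [mem_kerIn (f := R.ρ), mem_kerIn (f := R.π)]
  constructor
  · rintro ⟨hx, e⟩
    refine ⟨hx.1, Equiv.ext fun i => ?_⟩
    rcases Fin.eq_zero_or_eq_succ i with rfl | ⟨j, rfl⟩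
    · exact (R.fix0 _).mpr hx.2
    · exact (R.π_succ ⟨x, hx⟩ j).trans (by rw [e]; rfl)
  · rintro ⟨hx, e⟩
    have hN : x ∈ N := (R.fix0 ⟨x, hx⟩).mp (by rw [e]; rfl)
    refine ⟨⟨hx, hN⟩, Equiv.ext fun i => Fin.succ_injective _ ?_⟩
    have h := R.π_succ ⟨x, hx, hN⟩ i
    rw [show inclusion inf_le_left (⟨x, hx, hN⟩ : ↥(M ⊓ N : Subgroup G)) = ⟨x, hx⟩ from rfl, e] at h
    exact h.symm

theorem sign_ρ (x : ↥(M ⊓ N : Subgroup G)) :
    Perm.sign (R.ρ x) = Perm.sign (R.π (inclusion inf_le_left x)) := by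
  show Perm.sign ((finSuccAboveEquiv (0 : Fin (n + 1))).symm.permCongr
    ((R.π (inclusion inf_le_left x)).subtypePerm (fun i => R.pred_iff x i))) = _
  rw [Perm.sign_permCongr]
  refine Perm.sign_subtypePerm _ _ fun i hi e => hi ?_
  rw [e]
  exact (R.fix0 _).mpr x.2.2

theorem exists_ρ_eq {σ : Perm (Fin n)} {τ : Perm (Fin (n + 1))} (h0 : τ 0 = 0)
    (hs : ∀ i : Fin n, τ i.succ = (σ i).succ) {m : ↥M} (hm : R.π m = τ) :
    ∃ x, R.ρ x = σ := by
  subst hm
  refine ⟨⟨m, m.2, (R.fix0 m).mp h0⟩, Equiv.ext fun i => Fin.succ_injective _ ?_⟩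
  exact (R.π_succ ⟨m, m.2, (R.fix0 m).mp h0⟩ i).symm.trans (hs i)

theorem ρ_big (h : Big R.π.range) : Big R.ρ.range := by
  intro σ hσ
  set τ := ((finSuccAboveEquiv (0 : Fin (n + 1))).permCongr σ).ofSubtype with hτ
  have hs : Perm.sign τ = 1 := by
    rw [hτ, Perm.sign_ofSubtype, Perm.sign_permCongr]; exact hσ
  obtain ⟨m, hm⟩ := h (show τ ∈ alternatingGroup (Fin (n + 1)) from hs)
  refine R.exists_ρ_eq (Perm.ofSubtype_apply_of_not_mem _ (by simp)) (fun i => ?_) hm
  rw [Perm.ofSubtype_apply_of_mem (p := fun x : Fin (n + 1) => x ≠ 0) _ (Fin.succ_ne_zero i),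
    Equiv.permCongr_apply]
  have e : (finSuccAboveEquiv (0 : Fin (n + 1))).symm ⟨i.succ, Fin.succ_ne_zero i⟩ = i := by
    rw [Equiv.symm_apply_eq]; ext; simp [finSuccAboveEquiv_apply]
  rw [e]
  simp [finSuccAboveEquiv_apply]

theorem ρ_range_eq_top (h : R.π.range = ⊤) : R.ρ.range = ⊤ := by
  rw [eq_top_iff]
  intro σ _
  obtain ⟨m, hm⟩ := (h.ge (Subgroup.mem_top ((finSuccAboveEquiv (0 : Fin (n + 1))).permCongr σ).ofSubtype))
  refine R.exists_ρ_eq (Perm.ofSubtype_apply_of_not_mem _ (by simp)) (fun i => ?_) hm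
  rw [Perm.ofSubtype_apply_of_mem (p := fun x : Fin (n + 1) => x ≠ 0) _ (Fin.succ_ne_zero i),
    Equiv.permCongr_apply]
  have e : (finSuccAboveEquiv (0 : Fin (n + 1))).symm ⟨i.succ, Fin.succ_ne_zero i⟩ = i := by
    rw [Equiv.symm_apply_eq]; ext; simp [finSuccAboveEquiv_apply]
  rw [e]
  simp [finSuccAboveEquiv_apply]

theorem ρ_range_le_alternating (h : R.π.range ≤ alternatingGroup (Fin (n + 1))) :
    R.ρ.range ≤ alternatingGroup (Fin n) := by
  rintro _ ⟨x, rfl⟩
  rw [Perm.mem_alternatingGroup, R.sign_ρ]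
  exact h ⟨_, rfl⟩

/-- A subgroup of `M ∩ N` with big image is transitive on the other cosets. -/
theorem exists_mem_map (h3 : 3 ≤ n) {T : Subgroup G} (hT : Big (fim R.ρ T)) {m m' : ↥M}
    (hm : (m : G) ∉ N) (hm' : (m' : G) ∉ N) :
    ∃ x ∈ T, x ∈ M ⊓ N ∧ (m' : G)⁻¹ * x * m ∈ M ⊓ N := by
  obtain ⟨i, hi⟩ := Fin.exists_succ_eq.mpr (fun e => hm ((R.fix0 m).mp e))
  obtain ⟨j, hj⟩ := Fin.exists_succ_eq.mpr (fun e => hm' ((R.fix0 m').mp e))
  obtain ⟨σ, hσ, hij⟩ := exists_even_mapping h3 i j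
  obtain ⟨x, hxT, rfl⟩ := hT hσ
  refine ⟨x, hxT, x.2, mul_mem (mul_mem (Subgroup.inv_mem M m'.2) x.2.1) m.2, ?_⟩
  refine (R.fix0 (m'⁻¹ * inclusion inf_le_left x * m)).mp ?_
  rw [map_mul, map_mul, Perm.mul_apply, Perm.mul_apply, ← hi, R.π_succ, hij, hj,
    ← Perm.mul_apply, ← map_mul, inv_mul_cancel, map_one, Perm.one_apply]

end Rep

theorem card_eq_of_conj {M : Subgroup G} (c : G) :
    Nat.card ↥(MulAut.conj c • M : Subgroup G) = Nat.card ↥M :=
  card_map_of_injective (MulAut.conj c).injective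

section Pairs

variable [Finite G] {M N : Subgroup G} {n : ℕ}

theorem isSolvable_of_isPGroup {p : ℕ} (hp : p.Prime) {H : Subgroup G} (h : IsPGroup p ↥H) :
    Group.IsSolvable ↥H := by
  have : Fact p.Prime := ⟨hp⟩
  have := h.isNilpotent
  infer_instance

theorem isSolvable_of_eq_bot {H : Subgroup G} (h : H = ⊥) : Group.IsSolvable ↥H := by
  subst h
  infer_instance

/-- If `B₂` is soluble then `M` normalises `K ∩ K'`. -/
theorem normal_of_isSolvable (h5 : 5 ≤ n) (R : Rep M N n) (R' : Rep N M n) (hR : Big R.π.range)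
    (hR' : Big R'.π.range) (hcard : Nat.card ↥(coreOne M N) = Nat.card ↥(coreOne N M))
    (hne : coreOne M N ≠ coreOne N M) (hB : Group.IsSolvable ↥(coreTwo N M)) :
    M ≤ normalizer ((coreOne M N ⊓ coreOne N M : Subgroup G) : Set G) := by
  set K := coreOne M N with hK
  set K' := coreOne N M with hK'
  set D := K ⊓ K' with hDdef
  have hKL : K ≤ N ⊓ M := le_inf (coreOne_le_right M N) (coreOne_le_left M N)
  have hK'L : K' ≤ M ⊓ N := le_inf (coreOne_le_right N M) (coreOne_le_left N M)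
  have hKn : M ≤ normalizer (K : Set G) := le_normalizer_relCore _ _
  have hK'n : N ≤ normalizer (K' : Set G) := le_normalizer_relCore _ _
  have hK'D : K' ≤ normalizer (D : Set G) := coreOne_le_normalizer_inf M N
  have hKD : K ≤ normalizer (D : Set G) := by
    have := coreOne_le_normalizer_inf N M
    rwa [inf_comm] at this
  have hKK' : fim R'.ρ K ≠ ⊥ := fun h => hne (eq_of_le_of_card_ge
    (((fim_eq_bot_iff hKL).mp h).trans R'.kerIn_ρ.le) hcard.ge)
  have hK'K : fim R.ρ K' ≠ ⊥ := fun h => hne (eq_of_le_of_card_ge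
    (((fim_eq_bot_iff hK'L).mp h).trans R.kerIn_ρ.le) hcard.le).symm
  have hbigK : Big (fim R'.ρ K) := (fim_eq_bot_or_big h5 (R'.ρ_big hR')
    ((inf_le_right : N ⊓ M ≤ M).trans hKn)).resolve_left hKK'
  have hbigK' : Big (fim R.ρ K') := (fim_eq_bot_or_big h5 (R.ρ_big hR)
    ((inf_le_right : M ⊓ N ≤ N).trans hK'n)).resolve_left hK'K
  -- `q m : K → S_n` with kernel `D^m`
  let q : ∀ m : ↥M, ↥K →* Perm (Fin n) := fun m =>
    conjHom R'.ρ (m : G) (fun x hx => hKL (conj_le_of_mem_normalizer (hKn m.2) le_rfl x hx))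
  have hfixK : ∀ m : ↥M, MulAut.conj (m : G) • K = K := fun m =>
    Cores.conj_smul_eq_self_iff.mpr (hKn m.2)
  have hkerq : ∀ m : ↥M, kerIn (q m) = MulAut.conj (m : G) • D := fun m => by
    rw [kerIn_conjHom, R'.kerIn_ρ, hDdef, smul_inf, hfixK m]
  have hqbig : ∀ m : ↥M, Big (q m).range := fun m => by
    rw [range_conjHom, Cores.conj_smul_eq_self_iff.mpr (inv_mem (hKn m.2))]
    exact hbigK
  by_cases hstab : ∃ m : ↥M, (m : G) ∉ N ∧ MulAut.conj (m : G) • D = D
  · obtain ⟨m, hm, hmD⟩ := hstab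
    have hall : ∀ m' : ↥M, MulAut.conj (m' : G) • D = D := by
      intro m'
      have hL : ∀ x ∈ M ⊓ N, MulAut.conj x • D = D := fun x hx =>
        Cores.conj_smul_eq_self_iff.mpr (inf_normalizer_le_normalizer_inf ⟨hKn hx.1, hK'n hx.2⟩)
      by_cases hm' : (m' : G) ∈ N
      · exact hL _ ⟨m'.2, hm'⟩
      obtain ⟨x, hxK, -, hx⟩ := R.exists_mem_map (by omega) hbigK' hm hm'
      have h1 := hL _ hx
      rw [← conj_smul_conj, hmD, ← conj_smul_conj, Cores.conj_smul_eq_self_iff.mpr (hK'D hxK)] at h1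
      conv_lhs => rw [← h1]
      rw [conj_smul_conj, mul_inv_cancel, map_one, one_smul]
    exact fun m hm' => Cores.conj_smul_eq_self_iff.mp (hall ⟨m, hm'⟩)
  exfalso
  push Not at hstab
  have hcardD : ∀ m : G, Nat.card ↥(MulAut.conj m • D : Subgroup G) = Nat.card ↥D := fun m =>
    card_eq_of_conj m
  -- each `D ∩ D^m` is normalised by `K'`
  have hY : ∀ m : ↥M, (m : G) ∉ N →
      K' ≤ normalizer ((D ⊓ MulAut.conj (m : G) • D : Subgroup G) : Set G) := by
    intro m hm
    set qD := restrictHom (q m) (inf_le_left : D ≤ K) with hqD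
    have hkq : kerIn qD = D ⊓ MulAut.conj (m : G) • D := by rw [hqD, kerIn_restrictHom, hkerq]
    have hbigD : Big qD.range := by
      rw [hqD, range_restrictHom]
      refine (fim_eq_bot_or_big h5 (hqbig m) hKD).resolve_left fun h => hstab m hm ?_
      have := (fim_eq_bot_iff inf_le_left).mp h
      rw [hkerq] at this
      exact (eq_of_le_of_card_ge this (hcardD m).le).symm
    have hn : ∀ c : ↥N, K' ≤ normalizer ((MulAut.conj (c : G) • D : Subgroup G) : Set G) :=
      fun c => le_normalizer_conj (hK'n c.2) hK'D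
    obtain ⟨c, hc⟩ := exists_le_kerIn h5 hbigD (fun c : ↥N => D ⊓ MulAut.conj (c : G) • D)
      (fun c => inf_le_left)
      (fun c => (le_inf le_normalizer ((inf_le_right : D ≤ K').trans (hn c))).trans
        inf_normalizer_le_normalizer_inf) hB
      (fun x hx h => mem_relCore.mpr ⟨coreOne_le_left N M hx.2, fun p hp => by
        have h1 := Cores.mem_conj_smul.mp (h ⟨p⁻¹, inv_mem hp⟩).2
        simp only [inv_inv] at h1
        exact ⟨h1.2, h1.1⟩⟩)
    let hd : ↥D →* Perm (Fin n) := conjHom R.ρ (c : G)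
      (fun x hx => hK'L (conj_le_of_mem_normalizer (hK'n c.2) inf_le_right x hx))
    have hkh : kerIn hd = D ⊓ MulAut.conj (c : G) • D := by
      rw [kerIn_conjHom, R.kerIn_ρ, ← hK, hDdef, smul_inf, Cores.conj_smul_eq_self_iff.mpr (hK'n c.2)]
      refine le_antisymm ?_ (inf_le_inf_left _ inf_le_left)
      exact le_inf inf_le_left (le_inf inf_le_right (inf_le_left.trans inf_le_right))
    have hbigh : Big hd.range := by
      rw [range_conjHom]
      have hsub : MulAut.conj (c : G)⁻¹ • D ≤ M ⊓ N := by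
        intro x hx
        rw [Cores.mem_conj_smul, inv_inv] at hx
        have h1 := conj_le_of_mem_normalizer (hK'n c.2) (inf_le_right : D ≤ K') _ hx
        rw [show (c : G)⁻¹ * ((c : G) * x * (c : G)⁻¹) * (c : G) = x by group] at h1
        exact hK'L h1
      refine (eq_bot_or_big h5 hbigK' ?_).resolve_left fun h => ?_
      · rintro _ ⟨y, hy, rfl⟩
        have hy' := le_normalizer_conj (inv_mem (hK'n c.2)) hK'D hy
        rw [mem_normalizer_iff]
        intro σ
        constructor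
        · rintro ⟨z, hz, rfl⟩
          exact ⟨y * z * y⁻¹, (mem_normalizer_iff.mp hy' _).mp hz, by simp [map_mul, map_inv]⟩
        · rintro ⟨z, hz, e⟩
          exact ⟨y⁻¹ * z * y, (mem_normalizer_iff''.mp hy' _).mp hz, by
            rw [map_mul, map_mul, map_inv, e]; group⟩
      · have h1 := (fim_eq_bot_iff hsub).mp h
        rw [R.kerIn_ρ, ← hK] at h1
        -- then `D ≤ D^c`, so `D = D ∩ D^c` lies in the kernel
        refine big_ne_bot h5 hbigD ?_
        rw [← fim_self]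
        refine (fim_eq_bot_iff le_rfl).mpr (le_trans ?_ hc)
        refine le_inf le_rfl fun x hx => Cores.mem_conj_smul.mpr ⟨?_, ?_⟩
        · refine h1 (Cores.mem_conj_smul.mpr ?_)
          rw [show (c : G)⁻¹⁻¹ * ((c : G)⁻¹ * x * (c : G)) * (c : G)⁻¹ = x by group]
          exact hx
        · exact conj_le_of_mem_normalizer (hK'n c.2) inf_le_right x hx
    rw [← hkq, ← kerIn_eq_of_le h5 hbigD hbigh (hkh.le.trans hc), hkh]
    exact (le_inf hK'D (hn c)).trans inf_normalizer_le_normalizer_inf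
  -- two further cosets
  obtain ⟨m₁, hm₁⟩ := R.trans (Fin.succ ⟨0, by omega⟩)
  obtain ⟨m₂, hm₂⟩ := R.trans (Fin.succ ⟨1, by omega⟩)
  have h1 : (m₁ : G) ∉ N := fun h => Fin.succ_ne_zero _ (hm₁ ▸ (R.fix0 m₁).mpr h)
  have h2 : (m₂ : G) ∉ N := fun h => Fin.succ_ne_zero _ (hm₂ ▸ (R.fix0 m₂).mpr h)
  have h12 : ((m₁⁻¹ * m₂ : ↥M) : G) ∉ N := by
    intro h
    have := congrArg (R.π m₁) ((R.fix0 _).mpr h)
    rw [← Perm.mul_apply, ← map_mul, mul_inv_cancel_left, hm₁, hm₂] at this
    simp at this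
  have hne12 : MulAut.conj (m₁ : G) • D ≠ MulAut.conj (m₂ : G) • D := fun e => hstab _ h12 (by
    rw [Subgroup.coe_mul, ← conj_smul_conj, ← e, conj_smul_conj, Subgroup.coe_inv, inv_mul_cancel,
      map_one, one_smul])
  obtain ⟨x, hxK, -, hx⟩ := R.exists_mem_map (by omega) hbigK' h1 h2
  have hYeq : D ⊓ MulAut.conj (m₁ : G) • D = D ⊓ MulAut.conj (m₂ : G) • D := by
    have e := Cores.conj_smul_eq_self_iff.mpr (hY m₁ h1 hxK)
    have e' : MulAut.conj ((m₂ : G)⁻¹ * x * m₁) • D = D :=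
      Cores.conj_smul_eq_self_iff.mpr (inf_normalizer_le_normalizer_inf ⟨hKn hx.1, hK'n hx.2⟩)
    have e'' : MulAut.conj x • MulAut.conj (m₁ : G) • D = MulAut.conj (m₂ : G) • D := by
      conv_rhs => rw [← e']
      rw [conj_smul_conj, conj_smul_conj]
      congr 2
      group
    rw [smul_inf, Cores.conj_smul_eq_self_iff.mpr (hK'D hxK), e''] at e
    exact e.symm
  have hKn2 : ∀ m : ↥M, K ≤ normalizer ((MulAut.conj (m : G) • D : Subgroup G) : Set G) :=
    fun m => le_normalizer_conj (hKn m.2) hKD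
  have hb1 : Big (fim (q m₂) D) := (fim_eq_bot_or_big h5 (hqbig m₂) hKD).resolve_left fun h => by
    have := (fim_eq_bot_iff inf_le_left).mp h
    rw [hkerq] at this
    exact hstab m₂ h2 (eq_of_le_of_card_ge this (hcardD _).le).symm
  have hle1 : MulAut.conj (m₁ : G) • D ≤ K := (hkerq m₁).symm.le.trans (kerIn_le _)
  have hb2 : Big (fim (q m₂) (MulAut.conj (m₁ : G) • D)) :=
    (fim_eq_bot_or_big h5 (hqbig m₂) (hKn2 m₁)).resolve_left fun h => by
      have := (fim_eq_bot_iff hle1).mp h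
      rw [hkerq] at this
      exact hne12 (eq_of_le_of_card_ge this (by rw [hcardD, hcardD]))
  refine big_ne_bot h5 (big_inf h5 (q m₂) hKD (hKn2 m₁) hb1 hb2) ?_
  rw [fim_eq_bot_iff (inf_le_left.trans inf_le_left), hkerq, hYeq]
  exact inf_le_right

/-- If `A₂` is soluble and `K` has a `M`-invariant kernel onto a big group, `M` normalises `K ∩ K'`. -/
theorem normal_of_normal_kernel (h5 : 5 ≤ n) (R' : Rep N M n) (hR' : Big R'.π.range)
    (hne : ¬ coreOne M N ≤ coreOne N M) (hA : Group.IsSolvable ↥(coreTwo M N))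
    (q : ↥(coreOne M N) →* Perm (Fin n)) (hq : Big q.range)
    (hqn : M ≤ normalizer (kerIn q : Set G)) :
    M ≤ normalizer ((coreOne M N ⊓ coreOne N M : Subgroup G) : Set G) := by
  set K := coreOne M N
  set D := K ⊓ coreOne N M
  have hKn : M ≤ normalizer (K : Set G) := le_normalizer_relCore _ _
  have hKL : K ≤ N ⊓ M := le_inf (coreOne_le_right M N) (coreOne_le_left M N)
  have hKD : K ≤ normalizer (D : Set G) := by
    have := coreOne_le_normalizer_inf N M
    rwa [inf_comm] at this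
  have hle : ∀ m : ↥M, MulAut.conj (m : G) • D ≤ K := fun m => by
    conv_rhs => rw [← Cores.conj_smul_eq_self_iff.mpr (hKn m.2)]
    exact pointwise_smul_le_pointwise_smul_iff.mpr inf_le_left
  obtain ⟨m, hm⟩ := exists_le_kerIn h5 hq (fun m : ↥M => MulAut.conj (m : G) • D) hle
    (fun m => le_normalizer_conj (hKn m.2) hKD) hA
    (fun x hx h => mem_relCore.mpr ⟨coreOne_le_left M N hx, fun p hp => by
      have h1 := Cores.mem_conj_smul.mp (h ⟨p⁻¹, inv_mem hp⟩)
      simp only [inv_inv] at h1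
      exact h1⟩)
  let qm : ↥K →* Perm (Fin n) := conjHom R'.ρ (m : G)
    (fun x hx => hKL (conj_le_of_mem_normalizer (hKn m.2) le_rfl x hx))
  have hk : kerIn qm = MulAut.conj (m : G) • D := by
    rw [kerIn_conjHom, R'.kerIn_ρ, smul_inf, Cores.conj_smul_eq_self_iff.mpr (hKn m.2)]
  have hb : Big qm.range := by
    rw [range_conjHom, Cores.conj_smul_eq_self_iff.mpr (inv_mem (hKn m.2))]
    refine (fim_eq_bot_or_big h5 (R'.ρ_big hR') ((inf_le_right : N ⊓ M ≤ M).trans hKn)).resolve_left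
      fun h => hne ?_
    have := (fim_eq_bot_iff hKL).mp h
    rwa [R'.kerIn_ρ] at this
  have e := kerIn_eq_of_le h5 hq hb (hk.le.trans hm)
  rw [hk] at e
  have h1 : MulAut.conj (m : G) • D = D := by
    have h := Cores.conj_smul_eq_self_iff.mpr (hqn (inv_mem m.2))
    rw [← e, conj_smul_conj, inv_mul_cancel, map_one, one_smul] at h
    exact h.symm
  rw [h1] at e
  rwa [← e] at hqn

/-- The kernels of `M` on the suborbit and on the paired suborbit coincide. -/
theorem coreOne_paired (h5 : 5 ≤ n) (hP : Pair M N) {g : G} (hN : N = MulAut.conj g • M)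
    (hMN : M.relIndex N = n + 1) (R : Rep M N n) (hR : Big R.π.range)
    (R₀ : Rep M (MulAut.conj g⁻¹ • M) n) :
    coreOne M (MulAut.conj g⁻¹ • M) = coreOne M N ∧ Big R₀.π.range := by
  set K := coreOne M N with hK
  set K' := coreOne N M with hK'
  set Ks := coreOne M (MulAut.conj g⁻¹ • M) with hKs
  have hK's : K' = MulAut.conj g • Ks := by
    rw [hK', hKs, ← coreOne_conj, ← hN, conj_smul_conj, mul_inv_cancel, map_one, one_smul]
  have hle : Ks ≤ K := by
    by_contra hnot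
    have hKsM : Ks ≤ M := coreOne_le_left _ _
    have hf : ∀ x ∈ K', g⁻¹ * x * g ∈ M := fun x hx =>
      hKsM (Cores.mem_conj_smul.mp (hK's ▸ hx))
    set f := conjHom R.π g hf with hfdef
    have hfbig : Big f.range := by
      rw [hfdef, range_conjHom, hK's, conj_smul_conj, inv_mul_cancel, map_one, one_smul]
      refine (fim_eq_bot_or_big (by omega) hR (le_normalizer_relCore _ _)).resolve_left
        fun h => hnot ?_
      rw [hK, ← R.ker_eq]
      exact (fim_eq_bot_iff hKsM).mp h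
    have hK'n : N ≤ normalizer (K' : Set G) := le_normalizer_relCore _ _
    have hKD : K ≤ normalizer ((K ⊓ K' : Subgroup G) : Set G) := by
      have := coreOne_le_normalizer_inf N M
      rwa [inf_comm] at this
    have hlt := fun (H : Subgroup (Perm (Fin (n + 1)))) (h : Big H) =>
      factorial_lt_card_of_big (n := n + 1) (by omega) h
    simp only [Nat.add_sub_cancel] at hlt
    have hbig : Big (fim f (coreTwo N M)) := by
      let T : ↥N → Subgroup G := fun c => MulAut.conj (c : G) • (K' ⊓ K)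
      have hTn : ∀ c, K' ≤ normalizer (T c : Set G) := fun c => le_normalizer_conj (hK'n c.2) (by
        have := coreOne_le_normalizer_inf M N
        rwa [inf_comm] at this)
      have hTK : ∀ c, T c ≤ K' := fun c => by
        conv_rhs => rw [← Cores.conj_smul_eq_self_iff.mpr (hK'n c.2)]
        exact pointwise_smul_le_pointwise_smul_iff.mpr inf_le_left
      have hTb : ∀ c, Big (fim f (T c)) := fun c =>
        (fim_eq_bot_or_big (by omega) hfbig (hTn c)).resolve_left fun h => by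
          have h1 := card_range_le_of_le_kerIn f ((fim_eq_bot_iff (hTK c)).mp h)
            (b := n.factorial) (by
              conv_lhs => arg 2; rw [← Cores.conj_smul_eq_self_iff.mpr (hK'n c.2)]
              rw [relIndex_conj_smul]
              refine Nat.le_of_dvd (Nat.factorial_pos _) ?_
              have h2 := relIndex_inf_coreOne_dvd N M
              rwa [R.relIndex_eq, Nat.add_sub_cancel] at h2)
          exact absurd (hlt _ hfbig) (by omega)
      classical
      have := Fintype.ofFinite ↥N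
      refine le_trans (big_finset_inf (by omega) f hfbig T hTn hTb Finset.univ).1 (fim_mono f ?_)
      intro x hx
      refine mem_relCore.mpr ⟨coreOne_le_left N M hx.1, fun p hp => ?_⟩
      have h1 := Cores.mem_conj_smul.mp
        ((Finset.inf_le (f := T) (Finset.mem_univ (⟨p⁻¹, inv_mem hp⟩ : ↥N))) hx.2)
      simpa using h1
    have hB2 : coreTwo N M ≠ ⊥ := fun h => not_isSolvable_of_big (by omega) hbig
      (isSolvable_of_eq_bot h)
    by_cases hA2 : coreTwo M N = ⊥
    · have hB2K : coreTwo N M ≤ K := (coreTwo_le N M).trans inf_le_right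
      have hB2K' : coreTwo N M ≤ K' := (coreTwo_le N M).trans inf_le_left
      set f₂ := restrictHom f hB2K' with hf₂
      have hf₂big : Big f₂.range := by rw [hf₂, range_restrictHom]; exact hbig
      have hKn : M ≤ normalizer (K : Set G) := le_normalizer_relCore _ _
      obtain ⟨m, hm⟩ := exists_le_kerIn (by omega) hf₂big
        (fun m : ↥M => coreTwo N M ⊓ MulAut.conj (m : G) • (K ⊓ K')) (fun m => inf_le_left)
        (fun m => (le_inf le_normalizer (hB2K.trans (le_normalizer_conj (hKn m.2) hKD))).trans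
          inf_normalizer_le_normalizer_inf) (isSolvable_of_eq_bot hA2)
        (fun x hx h => mem_relCore.mpr ⟨coreOne_le_left M N (hB2K hx), fun p hp => by
          have h1 := Cores.mem_conj_smul.mp (h ⟨p⁻¹, inv_mem hp⟩).2
          simpa using h1⟩)
      have h1 := card_range_le_of_le_kerIn f₂ hm (b := n.factorial) (by
        rw [inf_relIndex_left]
        refine (relIndex_le_of_le_right hB2K ?_).trans ?_
        · exact index_ne_zero_of_finite
        conv_lhs => arg 2; rw [← Cores.conj_smul_eq_self_iff.mpr (hKn m.2)]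
        rw [relIndex_conj_smul]
        refine Nat.le_of_dvd (Nat.factorial_pos _) ?_
        have h2 := relIndex_inf_coreOne_dvd M N
        rwa [hMN, Nat.add_sub_cancel] at h2)
      exact absurd (hlt _ hf₂big) (by omega)
    · obtain ⟨p, hp, hpg, -⟩ := hP.exists_prime hA2 hB2
      exact not_isSolvable_of_big (by omega) hbig (isSolvable_of_isPGroup hp (hpg.to_le le_sup_right))
  have hb : Big R₀.π.range := by
    refine Perm.alternatingGroup_le_of_index_le_two ?_
    have h1 := card_range_mul R₀.π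
    have h2 := card_range_mul R.π
    rw [R₀.ker_eq] at h1
    rw [R.ker_eq] at h2
    have h3 := Subgroup.card_le_of_le hle
    have h4 : Nat.card ↥R.π.range ≤ Nat.card ↥R₀.π.range := by
      refine Nat.le_of_mul_le_mul_right ?_ (Nat.card_pos (α := ↥K))
      rw [h2, ← h1]
      exact Nat.mul_le_mul_left _ h3
    have h5' : 2 * Nat.card ↥(alternatingGroup (Fin (n + 1))) = (n + 1).factorial := by
      have : Nontrivial (Fin (n + 1)) := Fin.nontrivial_iff_two_le.mpr (by omega)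
      rw [two_mul_nat_card_alternatingGroup, Nat.card_perm, Nat.card_fin]
    have h6 := Subgroup.card_le_of_le hR
    have h7 := index_mul_card R₀.π.range
    rw [Nat.card_perm, Nat.card_fin, ← h5'] at h7
    have hp : 0 < Nat.card ↥(alternatingGroup (Fin (n + 1))) := Nat.card_pos
    have h8 : R₀.π.range.index * Nat.card ↥(alternatingGroup (Fin (n + 1))) ≤
        2 * Nat.card ↥(alternatingGroup (Fin (n + 1))) :=
      (Nat.mul_le_mul_left _ (h6.trans h4)).trans h7.le
    exact Nat.le_of_mul_le_mul_right h8 hp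
  refine ⟨?_, hb⟩
  have := kerIn_eq_of_le (k := n + 1) (by omega) hR hb (by rw [R₀.ker_eq, R.ker_eq]; exact hle)
  rwa [R₀.ker_eq, R.ker_eq] at this

/-- The structure of `M`. -/
theorem exists_embedding (h5 : 5 ≤ n) (hmax : IsCoatom M) (hcore : M.normalCore = ⊥) {g : G}
    (hN : N = MulAut.conj g • M) (hne : M ≠ N) (R : Rep M N n) (hR : Big R.π.range)
    (hK : coreOne M N ≠ ⊥) :
    ∃ φ : ↥M →* Perm (Fin n), Function.Injective (R.π.prod φ) ∧
      (alternatingGroup (Fin (n + 1))).prod (alternatingGroup (Fin n)) ≤ (R.π.prod φ).range ∧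
      (R.π.range = ⊤ → φ.range = ⊤) ∧
      (R.π.range ≤ alternatingGroup (Fin (n + 1)) → φ.range ≤ alternatingGroup (Fin n)) := by
  have hP : Pair M N := Pair.of_isCoatom hmax hcore (g := g) (hN.trans rfl) hne
  have hMN : M.relIndex N = n + 1 := by
    have h1 := relIndex_mul_card_inf M N
    have h2 := relIndex_mul_card_inf N M
    have hc : Nat.card ↥N = Nat.card ↥M := by rw [hN]; exact card_eq_of_conj g
    rw [R.relIndex_eq] at h2
    rw [inf_comm] at h2
    rw [hc, ← h2] at h1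
    exact Nat.eq_of_mul_eq_mul_right Nat.card_pos h1
  obtain ⟨R₀⟩ := exists_rep (M := M) (N := MulAut.conj g⁻¹ • M) (n := n) (by
    rw [← relIndex_conj_smul g, conj_smul_conj, mul_inv_cancel, map_one, one_smul, ← hN]
    exact hMN)
  obtain ⟨heq, hR₀⟩ := coreOne_paired h5 hP hN hMN R hR R₀
  have hcM : M = MulAut.conj g • MulAut.conj g⁻¹ • M := by
    rw [conj_smul_conj, mul_inv_cancel, map_one, one_smul]
  set R' := R₀.conj g hN hcM with hR'def
  have hR' : Big R'.π.range := by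
    intro σ hσ
    obtain ⟨m, rfl⟩ := hR₀ hσ
    refine ⟨⟨g * (m : G) * g⁻¹, hN ▸ Cores.mem_conj_smul.mpr (by simp [mul_assoc])⟩, ?_⟩
    show R₀.π ⟨g⁻¹ * (g * (m : G) * g⁻¹) * g, _⟩ = R₀.π m
    congr 1
    ext
    group
  set K := coreOne M N with hKdef
  set K' := coreOne N M with hK'def
  have hKK' : K' = MulAut.conj g • K := by
    rw [← heq, ← coreOne_conj, ← hN, ← hcM]
  have hcard : Nat.card ↥K = Nat.card ↥K' := by rw [hKK']; exact (card_eq_of_conj g).symm
  have hKn : M ≤ normalizer (K : Set G) := le_normalizer_relCore _ _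
  have hK'n : N ≤ normalizer (K' : Set G) := le_normalizer_relCore _ _
  have htop : M ⊔ N = ⊤ := by
    refine hmax.2 _ (lt_of_le_of_ne le_sup_left fun e => hne ?_)
    have h1 : N ≤ M := e ▸ le_sup_right
    exact (eq_of_le_of_card_ge h1 (by rw [hN]; exact (card_eq_of_conj g).ge)).symm
  have hnormal : ∀ X : Subgroup G, X ≤ M → M ≤ normalizer (X : Set G) →
      N ≤ normalizer (X : Set G) → X = ⊥ := fun X hX h1 h2 => by
    have : X.Normal := normalizer_eq_top_iff.mp (top_le_iff.mp (htop ▸ sup_le h1 h2))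
    exact le_bot_iff.mp (hcore ▸ normal_le_normalCore.mpr hX)
  have hneK : K ≠ K' := fun e => hK (hnormal K (coreOne_le_left M N) hKn (e ▸ hK'n))
  have hKK'le : ¬ K ≤ K' := fun h => hneK (eq_of_le_of_card_ge h hcard.ge)
  have hK'Kle : ¬ K' ≤ K := fun h => hneK (eq_of_le_of_card_ge h hcard.le).symm
  have hKL : K ≤ N ⊓ M := le_inf (coreOne_le_right M N) (coreOne_le_left M N)
  have hK'L : K' ≤ M ⊓ N := le_inf (coreOne_le_right N M) (coreOne_le_left N M)
  have hbigK : Big (fim R'.ρ K) := (fim_eq_bot_or_big h5 (R'.ρ_big hR')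
    ((inf_le_right : N ⊓ M ≤ M).trans hKn)).resolve_left fun h => hKK'le (by
      rw [hK'def, ← R'.kerIn_ρ]; exact (fim_eq_bot_iff hKL).mp h)
  have hbigK' : Big (fim R.ρ K') := (fim_eq_bot_or_big h5 (R.ρ_big hR)
    ((inf_le_right : M ⊓ N ≤ N).trans hK'n)).resolve_left fun h => hK'Kle (by
      rw [hKdef, ← R.kerIn_ρ]; exact (fim_eq_bot_iff hK'L).mp h)
  have hgK : MulAut.conj g⁻¹ • K' = K := by
    rw [hKK', conj_smul_conj, inv_mul_cancel, map_one, one_smul]
  -- `K ∩ K' = 1`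
  have hD : K ⊓ K' = ⊥ := by
    have hboth : M ≤ normalizer ((K ⊓ K' : Subgroup G) : Set G) ∧
        N ≤ normalizer ((K' ⊓ K : Subgroup G) : Set G) := by
      by_cases hA : coreTwo M N = ⊥
      · have hN' := normal_of_isSolvable h5 R' R hR' hR hcard.symm hneK.symm (isSolvable_of_eq_bot hA)
        refine ⟨?_, hN'⟩
        let q := conjHom R.ρ g⁻¹ (T := K) (fun x hx => hK'L (by
          rw [hKK', Cores.mem_conj_smul]; simpa [mul_assoc] using hx))
        refine normal_of_normal_kernel h5 R' hR' hKK'le (isSolvable_of_eq_bot hA) q ?_ ?_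
        · rw [range_conjHom, inv_inv, ← hKK']; exact hbigK'
        · rw [kerIn_conjHom, R.kerIn_ρ]
          have e : K ⊓ MulAut.conj g⁻¹ • K = MulAut.conj g⁻¹ • (K' ⊓ K) := by
            rw [smul_inf, hgK]
          rw [← hKdef, e]
          intro m hm
          have h1 := hN' (show g * m * g⁻¹ ∈ N by rw [hN, Cores.mem_conj_smul]; simpa [mul_assoc] using hm)
          rw [← Cores.conj_smul_eq_self_iff] at h1 ⊢
          rw [conj_smul_conj, show m * g⁻¹ = g⁻¹ * (g * m * g⁻¹) by group, ← conj_smul_conj, h1]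
      by_cases hB : coreTwo N M = ⊥
      · have hM' := normal_of_isSolvable h5 R R' hR hR' hcard hneK (isSolvable_of_eq_bot hB)
        refine ⟨hM', ?_⟩
        let q := conjHom R'.ρ g (T := K') (fun x hx => hKL (by
          rw [hKK'] at hx; exact Cores.mem_conj_smul.mp hx))
        refine normal_of_normal_kernel h5 R hR hK'Kle (isSolvable_of_eq_bot hB) q ?_ ?_
        · rw [range_conjHom, hgK]; exact hbigK
        · rw [kerIn_conjHom, R'.kerIn_ρ]
          have e : K' ⊓ MulAut.conj g • K' = MulAut.conj g • (K ⊓ K') := by rw [smul_inf, ← hKK']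
          rw [← hK'def, e]
          intro m hm
          have h1 := hM' (show g⁻¹ * m * g ∈ M from Cores.mem_conj_smul.mp (hN ▸ hm))
          rw [← Cores.conj_smul_eq_self_iff] at h1 ⊢
          rw [conj_smul_conj, show m * g = g * (g⁻¹ * m * g) by group, ← conj_smul_conj, h1]
      obtain ⟨p, hp, hpg, -⟩ := hP.exists_prime hA hB
      exact ⟨normal_of_isSolvable h5 R R' hR hR' hcard hneK
          (isSolvable_of_isPGroup hp (hpg.to_le le_sup_right)),
        normal_of_isSolvable h5 R' R hR' hR hcard.symm hneK.symm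
          (isSolvable_of_isPGroup hp (hpg.to_le le_sup_left))⟩
    exact hnormal _ (inf_le_left.trans (coreOne_le_left M N)) hboth.1 (inf_comm K' K ▸ hboth.2)
  -- `M = L C` with `C = C_M(K)`
  set C := M ⊓ centralizer (K : Set G) with hC
  have hK'C : K' ≤ C := fun x hx => by
    refine ⟨coreOne_le_right N M hx, fun k hk => ?_⟩
    have h1 : k * x * k⁻¹ * x⁻¹ ∈ K ⊓ K' :=
      ⟨by
        rw [show k * x * k⁻¹ * x⁻¹ = k * (x * k⁻¹ * x⁻¹) by group]
        exact mul_mem hk ((mem_normalizer_iff.mp (hKn (coreOne_le_right N M hx)) _).mp (Subgroup.inv_mem K hk)),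
       mul_mem ((mem_normalizer_iff.mp (hK'n (coreOne_le_right M N hk)) x).mp hx) (Subgroup.inv_mem K' hx)⟩
    rw [hD, Subgroup.mem_bot, mul_inv_eq_one] at h1
    calc k * x = k * x * k⁻¹ * k := by group
      _ = x * k := by rw [h1]
  have hKc : normalizer (K : Set G) ≤ normalizer ((centralizer (K : Set G) : Subgroup G) : Set G) := by
    intro a ha
    rw [mem_normalizer_iff]
    intro y
    constructor
    · intro hy k hk
      have h1 := hy _ ((mem_normalizer_iff''.mp ha k).mp hk)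
      calc k * (a * y * a⁻¹) = a * ((a⁻¹ * k * a) * y) * a⁻¹ := by group
        _ = _ := by rw [h1]; group
    · intro hy k hk
      have h1 := hy _ ((mem_normalizer_iff.mp ha k).mp hk)
      calc k * y = a⁻¹ * ((a * k * a⁻¹) * (a * y * a⁻¹)) * a := by group
        _ = _ := by rw [h1]; group
  have hCn : M ≤ normalizer (C : Set G) :=
    (le_inf le_normalizer (hKn.trans hKc)).trans inf_normalizer_le_normalizer_inf
  have hCtr : ∀ m : ↥M, ∃ c : ↥M, (c : G) ∈ C ∧ R.π c 0 = R.π m 0 := by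
    have hbig : Big (fim R.π C) :=
      (fim_eq_bot_or_big (by omega) hR hCn).resolve_left fun h => hK'Kle (by
        rw [hKdef, ← R.ker_eq]; exact hK'C.trans ((fim_eq_bot_iff inf_le_left).mp h))
    intro m
    obtain ⟨σ, hσ, hσ'⟩ := exists_even_mapping (k := n + 1) (by omega) 0 (R.π m 0)
    obtain ⟨c, hc, rfl⟩ := hbig hσ
    exact ⟨c, hc, hσ'⟩
  choose c hcC hc0 using hCtr
  have hx : ∀ m : ↥M, (m : G) * (c (m⁻¹) : G) ∈ N ⊓ M := fun m =>
    ⟨(R.fix0 (m * c m⁻¹)).mp (by
        rw [map_mul, Perm.mul_apply, hc0, ← Perm.mul_apply, ← map_mul, mul_inv_cancel, map_one]; rfl),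
      mul_mem m.2 (c m⁻¹).2⟩
  let φ₀ : ↥M → Perm (Fin n) := fun m => R'.ρ ⟨_, hx m⟩
  -- centralising `K` means trivial image
  have htriv : ∀ y : ↥(N ⊓ M : Subgroup G), (y : G) ∈ C → R'.ρ y = 1 := by
    intro y hy
    refine eq_one_of_commute_alternating (by omega) fun σ hσ => ?_
    obtain ⟨z, hz, rfl⟩ := hbigK hσ
    rw [← map_mul, ← map_mul]
    congr 1
    exact Subtype.ext (hy.2 z hz)
  have hval : ∀ (m : ↥M) (y : ↥(N ⊓ M : Subgroup G)) (d : G), d ∈ C → (m : G) = y * d →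
      φ₀ m = R'.ρ y := by
    intro m y d hd e
    have h1 := htriv (y⁻¹ * ⟨_, hx m⟩) (by
      show (y : G)⁻¹ * ((m : G) * (c m⁻¹ : G)) ∈ C
      rw [e, show (y : G)⁻¹ * ((y : G) * d * (c m⁻¹ : G)) = d * (c m⁻¹ : G) by group]
      exact mul_mem hd (hcC _))
    rw [map_mul, map_inv, inv_mul_eq_one] at h1
    exact h1.symm
  have hdec : ∀ m : ↥M, (m : G) = ((m : G) * (c m⁻¹ : G)) * (c m⁻¹ : G)⁻¹ := fun m => by group
  let φ : ↥M →* Perm (Fin n) := MonoidHom.mk' φ₀ fun a b => by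
    rw [show φ₀ a * φ₀ b = R'.ρ (⟨_, hx a⟩ * ⟨_, hx b⟩) from (map_mul _ _ _).symm]
    refine hval _ _ (((b : G) * (c b⁻¹ : G))⁻¹ * (c a⁻¹ : G)⁻¹ * ((b : G) * (c b⁻¹ : G)) *
      (c b⁻¹ : G)⁻¹) ?_ ?_
    · exact mul_mem ((mem_normalizer_iff''.mp (hCn (hx b).2) _).mp (inv_mem (hcC _))) (inv_mem (hcC _))
    · simp only [Subgroup.coe_mul]; group
  have hφL : ∀ y : ↥(N ⊓ M : Subgroup G), φ ⟨y, y.2.2⟩ = R'.ρ y := fun y =>
    hval _ y 1 (one_mem _) (mul_one _).symm
  have hφC : ∀ m : ↥M, (m : G) ∈ C → φ m = 1 := fun m hm =>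
    (hval m 1 (m : G) hm (one_mul _).symm).trans (map_one _)
  have hrange : φ.range = R'.ρ.range := by
    refine le_antisymm ?_ ?_
    · rintro _ ⟨m, rfl⟩; exact ⟨_, rfl⟩
    · rintro _ ⟨y, rfl⟩; exact ⟨_, hφL y⟩
  have hNM : Nat.card ↥(N ⊓ M : Subgroup G) = Nat.card ↥(M ⊓ N : Subgroup G) := by rw [inf_comm]
  refine ⟨φ, ?_, ?_, ?_, ?_⟩
  · rw [injective_iff_map_eq_one]
    intro m hm
    obtain ⟨h1, h2⟩ : R.π m = 1 ∧ φ m = 1 := Prod.ext_iff.mp hm
    have hmK : (m : G) ∈ K := by rw [hKdef, ← R.ker_eq, mem_kerIn]; exact ⟨m.2, h1⟩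
    have h3 : R'.ρ ⟨m, hKL hmK⟩ = 1 := (hφL ⟨m, hKL hmK⟩).symm.trans h2
    have h4 : (m : G) ∈ K ⊓ K' := mem_inf.mpr
      ⟨hmK, by rw [hK'def, ← R'.kerIn_ρ, mem_kerIn]; exact ⟨_, h3⟩⟩
    rw [hD, Subgroup.mem_bot] at h4
    exact Subtype.ext h4
  · rintro ⟨σ, τ⟩ ⟨hσ, hτ⟩
    have hbigC : Big (fim R.π C) :=
      (fim_eq_bot_or_big (by omega) hR hCn).resolve_left fun h => hK'Kle (by
        rw [hKdef, ← R.ker_eq]; exact hK'C.trans ((fim_eq_bot_iff inf_le_left).mp h))
    obtain ⟨u, hu, rfl⟩ := hbigC hσ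
    obtain ⟨v, hv, rfl⟩ := hbigK hτ
    refine ⟨u * ⟨v, v.2.2⟩, ?_⟩
    have hv1 : R.π ⟨v, v.2.2⟩ = 1 := by
      have : (v : G) ∈ kerIn R.π := by rw [R.ker_eq]; exact hv
      obtain ⟨_, h⟩ := mem_kerIn.mp this
      exact h
    exact Prod.ext (by show R.π (u * _) = _; rw [map_mul, hv1, mul_one])
      (by show φ (u * _) = _; rw [map_mul, hφC u hu, hφL, one_mul])
  · intro htop'
    rw [hrange]
    have h1 := card_range_mul R'.ρ
    have h2 := card_range_mul R.ρ
    rw [R'.kerIn_ρ, hNM, ← hK'def, ← hcard] at h1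
    rw [R.kerIn_ρ, ← hKdef, ← h1, R.ρ_range_eq_top htop'] at h2
    exact eq_top_of_card_eq _ (Nat.eq_of_mul_eq_mul_right Nat.card_pos h2.symm ▸ card_top)
  · intro halt
    rw [hrange]
    have h1 := card_range_mul R'.ρ
    have h2 := card_range_mul R.ρ
    rw [R'.kerIn_ρ, hNM, ← hK'def, ← hcard] at h1
    rw [R.kerIn_ρ, ← hKdef, ← h1] at h2
    have e : R.ρ.range = alternatingGroup (Fin n) :=
      le_antisymm (R.ρ_range_le_alternating halt) (R.ρ_big hR)
    rw [e] at h2
    exact (eq_of_le_of_card_ge (R'.ρ_big hR') (Nat.eq_of_mul_eq_mul_right Nat.card_pos h2).ge).ge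

end Pairs

end Cfsg.Agent.ThompsonWielandt
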