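import Cfsg.Agent.EqLemmas
import Cfsg.Agent.Lib.Cores.Basic
import Mathlib

/-!
# Homomorphisms onto groups containing the alternating group

`fim f T` is the image of `T` under a homomorphism `f` defined on a subgroup `X`; `kerIn f` its
kernel as a subgroup of the ambient group. For images containing `A_k`, `k ≥ 5`: `fim_eq_bot_or_big`,
`big_finset_inf`, `exists_le_kerIn` (one of a family with solvable intersection is in the kernel),
`kerIn_eq_of_le`.
-/

set_option autoImplicit false

namespace Cfsg.Agent.ThompsonWielandt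

open Subgroup Equiv

variable {G : Type*} [Group G] {P : Type*} [Group P] {X : Subgroup G}

/-- The image of `T` under a homomorphism defined on `X`. -/
def fim (f : ↥X →* P) (T : Subgroup G) : Subgroup P := (T.subgroupOf X).map f

/-- The kernel in the ambient group of a homomorphism defined on `X`. -/
def kerIn (f : ↥X →* P) : Subgroup G := f.ker.map X.subtype

theorem mem_fim {f : ↥X →* P} {T : Subgroup G} {σ : P} :
    σ ∈ fim f T ↔ ∃ x : ↥X, (x : G) ∈ T ∧ f x = σ := Iff.rfl

theorem mem_kerIn {f : ↥X →* P} {x : G} : x ∈ kerIn f ↔ ∃ h : x ∈ X, f ⟨x, h⟩ = 1 := by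
  constructor
  · rintro ⟨y, hy, rfl⟩
    exact ⟨y.2, hy⟩
  · rintro ⟨h, hx⟩
    exact ⟨⟨x, h⟩, hx, rfl⟩

theorem kerIn_le (f : ↥X →* P) : kerIn f ≤ X := map_subtype_le _

theorem fim_mono (f : ↥X →* P) {S T : Subgroup G} (h : S ≤ T) : fim f S ≤ fim f T :=
  Subgroup.map_mono (comap_mono h)

theorem fim_self (f : ↥X →* P) : fim f X = f.range := by
  rw [fim, subgroupOf_self, ← MonoidHom.range_eq_map]

theorem fim_eq_bot_iff {f : ↥X →* P} {T : Subgroup G} (hT : T ≤ X) :
    fim f T = ⊥ ↔ T ≤ kerIn f := by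
  rw [fim, Subgroup.map_eq_bot_iff]
  constructor
  · intro h x hx
    exact mem_kerIn.mpr ⟨hT hx, h (show (⟨x, hT hx⟩ : ↥X) ∈ T.subgroupOf X from hx)⟩
  · intro h y hy
    obtain ⟨_, h1⟩ := mem_kerIn.mp (h hy)
    exact h1

theorem range_le_normalizer_fim (f : ↥X →* P) {T : Subgroup G}
    (hn : X ≤ normalizer (T : Set G)) : f.range ≤ normalizer (fim f T : Set P) := by
  have := normal_subgroupOf_of_le_normalizer hn
  have h := le_normalizer_map f (H := T.subgroupOf X)
  rwa [normalizer_eq_top (T.subgroupOf X), ← MonoidHom.range_eq_map] at h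

theorem card_range_mul [Finite G] (f : ↥X →* P) :
    Nat.card ↥f.range * Nat.card ↥(kerIn f) = Nat.card ↥X := by
  rw [kerIn, card_map_of_injective (subtype_injective X), ← index_ker f, index_mul_card]

theorem card_range_le_of_le_kerIn [Finite G] (f : ↥X →* P) {T : Subgroup G}
    (hT : T ≤ kerIn f) {b : ℕ} (hb : T.relIndex X ≤ b) : Nat.card ↥f.range ≤ b := by
  refine le_trans (Nat.le_of_dvd (Nat.pos_of_ne_zero index_ne_zero_of_finite) ?_) hb
  rw [← index_ker f]
  refine index_dvd_of_le fun x hx => ?_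
  obtain ⟨_, h⟩ := mem_kerIn.mp (hT hx)
  exact h

section Alternating

variable {k : ℕ}

/-- The subgroup contains the alternating group. -/
def Big (H : Subgroup (Perm (Fin k))) : Prop := alternatingGroup (Fin k) ≤ H

theorem exists_even_mapping (h3 : 3 ≤ k) (i j : Fin k) :
    ∃ σ ∈ alternatingGroup (Fin k), σ i = j := by
  by_cases hij : i = j
  · exact ⟨1, one_mem _, by simp [hij]⟩
  obtain ⟨l, hl⟩ : ∃ l, l ∉ ({i, j} : Finset (Fin k)) := by
    by_contra hne
    push Not at hne
    have := Finset.card_le_card (show (Finset.univ : Finset (Fin k)) ⊆ {i, j} from fun x _ => hne x)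
    rw [Finset.card_univ, Fintype.card_fin, Finset.card_pair hij] at this
    omega
  simp only [Finset.mem_insert, Finset.mem_singleton, not_or] at hl
  refine ⟨swap i l * swap i j, ?_, ?_⟩
  · rw [Perm.mem_alternatingGroup, map_mul, Perm.sign_swap (Ne.symm hl.1), Perm.sign_swap hij]
    decide
  · rw [Perm.mul_apply, swap_apply_left, swap_apply_of_ne_of_ne (Ne.symm hij) (Ne.symm hl.2)]

theorem eq_one_of_commute_alternating (h4 : 4 ≤ k) {g : Perm (Fin k)}
    (hg : ∀ σ ∈ alternatingGroup (Fin k), σ * g = g * σ) : g = 1 := by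
  by_contra hne
  obtain ⟨x, hx⟩ : ∃ x, g x ≠ x := by
    by_contra h
    push Not at h
    exact hne (Equiv.ext h)
  obtain ⟨u, hu⟩ : ∃ u, u ∉ ({x, g x} : Finset (Fin k)) := by
    by_contra hc
    push Not at hc
    have := Finset.card_le_card (show (Finset.univ : Finset (Fin k)) ⊆ {x, g x} from fun y _ => hc y)
    rw [Finset.card_univ, Fintype.card_fin, Finset.card_pair (Ne.symm hx)] at this
    omega
  obtain ⟨v, hv⟩ : ∃ v, v ∉ ({x, g x, u} : Finset (Fin k)) := by
    by_contra hc
    push Not at hc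
    have := Finset.card_le_card (show (Finset.univ : Finset (Fin k)) ⊆ {x, g x, u} from fun y _ => hc y)
    rw [Finset.card_univ, Fintype.card_fin] at this
    have := this.trans Finset.card_le_three
    omega
  simp only [Finset.mem_insert, Finset.mem_singleton, not_or] at hu hv
  -- a 3-cycle fixing `x` and moving `g x`
  have hσ : swap (g x) u * swap (g x) v ∈ alternatingGroup (Fin k) := by
    rw [Perm.mem_alternatingGroup, map_mul, Perm.sign_swap (Ne.symm hu.2),
      Perm.sign_swap (Ne.symm hv.2.1)]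
    decide
  have h := congrArg (fun π : Perm (Fin k) => π x) (hg _ hσ)
  simp only [Perm.mul_apply, swap_apply_left] at h
  rw [swap_apply_of_ne_of_ne (Ne.symm hx) (Ne.symm hv.1),
    swap_apply_of_ne_of_ne (Ne.symm hx) (Ne.symm hu.1),
    swap_apply_of_ne_of_ne hv.2.1 hv.2.2] at h
  exact hv.2.1 h

theorem eq_bot_or_big (h5 : 5 ≤ k) {H R : Subgroup (Perm (Fin k))} (hR : Big R)
    (hn : R ≤ normalizer (H : Set (Perm (Fin k)))) : H = ⊥ ∨ Big H := by
  set A := alternatingGroup (Fin k)
  have hAn : A ≤ normalizer (H : Set (Perm (Fin k))) := hR.trans hn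
  have : (H.subgroupOf A).Normal := normal_subgroupOf_of_le_normalizer hAn
  have : IsSimpleGroup A := alternatingGroup.isSimpleGroup (by simpa using h5)
  rcases Subgroup.Normal.eq_bot_or_eq_top (H := H.subgroupOf A) inferInstance with h | h
  · left
    rw [eq_bot_iff]
    intro g hg
    refine Subgroup.mem_bot.mpr (eq_one_of_commute_alternating (by omega) fun σ hσ => ?_)
    have h1 : σ * g * σ⁻¹ * g⁻¹ ∈ H :=
      mul_mem ((mem_normalizer_iff.mp (hAn hσ) g).mp hg) (inv_mem hg)
    have h2 : σ * g * σ⁻¹ * g⁻¹ ∈ A := by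
      rw [Perm.mem_alternatingGroup]
      simp only [map_mul, map_inv]
      rw [mul_comm (Perm.sign σ) (Perm.sign g), mul_assoc, mul_assoc, ← mul_assoc (Perm.sign σ)]
      simp
    have h3 := (subgroupOf_eq_bot.mp h).le_bot ⟨h1, h2⟩
    rw [Subgroup.mem_bot, mul_inv_eq_one] at h3
    calc σ * g = σ * g * σ⁻¹ * σ := by group
      _ = g * σ := by rw [h3]
  · exact Or.inr (subgroupOf_eq_top.mp h)

theorem fim_eq_bot_or_big (h5 : 5 ≤ k) {f : ↥X →* Perm (Fin k)} (hf : Big f.range) {T : Subgroup G}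
    (hn : X ≤ normalizer (T : Set G)) : fim f T = ⊥ ∨ Big (fim f T) :=
  eq_bot_or_big h5 hf (range_le_normalizer_fim f hn)

theorem big_ne_bot (h5 : 5 ≤ k) {H : Subgroup (Perm (Fin k))} (hH : Big H) : H ≠ ⊥ := by
  intro h
  have h3 := exists_even_mapping (k := k) (by omega) ⟨0, by omega⟩ ⟨1, by omega⟩
  obtain ⟨σ, hσ, hσ'⟩ := h3
  have := hH hσ
  rw [h, Subgroup.mem_bot] at this
  rw [this] at hσ'
  simp at hσ'

theorem factorial_lt_card_of_big {n : ℕ} (h3 : 3 ≤ n) {H : Subgroup (Perm (Fin n))} (hH : Big H) :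
    (n - 1).factorial < Nat.card H := by
  have : Nontrivial (Fin n) := Fin.nontrivial_iff_two_le.mpr (by omega)
  have h1 : 2 * Nat.card (alternatingGroup (Fin n)) = n.factorial := by
    rw [two_mul_nat_card_alternatingGroup, Nat.card_perm, Nat.card_fin]
  have h2 := Subgroup.card_le_of_le hH
  have h4 : n.factorial = n * (n - 1).factorial := (Nat.mul_factorial_pred (by omega)).symm
  have := Nat.factorial_pos (n - 1)
  nlinarith

theorem big_inf (h5 : 5 ≤ k) (f : ↥X →* Perm (Fin k)) {S T : Subgroup G}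
    (hSn : X ≤ normalizer (S : Set G)) (hTn : X ≤ normalizer (T : Set G))
    (h1 : Big (fim f S)) (h2 : Big (fim f T)) : Big (fim f (S ⊓ T)) := by
  have := normal_subgroupOf_of_le_normalizer hSn
  have := normal_subgroupOf_of_le_normalizer hTn
  have hle : ⁅S.subgroupOf X, T.subgroupOf X⁆ ≤ (S ⊓ T).subgroupOf X := by
    rw [show (S ⊓ T).subgroupOf X = S.subgroupOf X ⊓ T.subgroupOf X from comap_inf _ _ _]
    exact commutator_le_inf _ _
  unfold Big
  rw [← commutator_alternatingGroup_eq_self (α := Fin k) (by simpa using h5)]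
  refine le_trans (commutator_mono h1 h2) ?_
  rw [fim, fim, fim, ← map_commutator]
  exact Subgroup.map_mono hle

theorem big_finset_inf (h5 : 5 ≤ k) (f : ↥X →* Perm (Fin k)) (hX : Big f.range) {ι : Type*}
    (T : ι → Subgroup G) (hn : ∀ i, X ≤ normalizer (T i : Set G))
    (hbig : ∀ i, Big (fim f (T i))) (s : Finset ι) :
    Big (fim f (X ⊓ s.inf T)) ∧ X ≤ normalizer ((X ⊓ s.inf T : Subgroup G) : Set G) := by
  classical
  induction s using Finset.induction_on with
  | empty =>
    rw [Finset.inf_empty, inf_top_eq, fim_self]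
    exact ⟨hX, le_normalizer⟩
  | insert i s his ih =>
    have e : X ⊓ (insert i s).inf T = T i ⊓ (X ⊓ s.inf T) := by
      rw [Finset.inf_insert, ← inf_assoc, inf_comm X (T i), inf_assoc]
    rw [e]
    exact ⟨big_inf h5 f (hn i) ih.2 (hbig i) ih.1,
      (le_inf (hn i) ih.2).trans inf_normalizer_le_normalizer_inf⟩

theorem not_isSolvable_of_big (h5 : 5 ≤ k) {f : ↥X →* Perm (Fin k)} {T : Subgroup G}
    (h : Big (fim f T)) : ¬ Group.IsSolvable ↥T := by
  intro hT
  have := hT
  have : Group.IsSolvable ↥(T ⊓ X : Subgroup G) :=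
    Group.isSolvable_of_isSolvable_injective (inclusion_injective (inf_le_left : T ⊓ X ≤ T))
  have : Group.IsSolvable ↥(T.subgroupOf X) := by
    refine Group.isSolvable_of_isSolvable_injective (f := (MonoidHom.mk' (fun y =>
      (⟨((y : ↥X) : G), y.2, (y : ↥X).2⟩ : ↥(T ⊓ X : Subgroup G))) fun a b => rfl)) ?_
    intro a b hab
    simp only [MonoidHom.mk'_apply] at hab
    exact Subtype.ext (Subtype.ext (congrArg (fun z : ↥(T ⊓ X : Subgroup G) => (z : G)) hab))
  have : Group.IsSolvable ↥(fim f T) :=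
    Group.isSolvable_of_surjective (f := f.subgroupMap (T.subgroupOf X))
      (f.subgroupMap_surjective _)
  have : Group.IsSolvable ↥(alternatingGroup (Fin k)) :=
    Group.isSolvable_of_isSolvable_injective (inclusion_injective h)
  have : Nontrivial ↥(alternatingGroup (Fin k)) :=
    alternatingGroup.nontrivial_of_three_le_card (by simpa using (by omega : 3 ≤ k))
  exact (Group.IsSolvable.commutator_lt_top_of_nontrivial ↥(alternatingGroup (Fin k))).ne
    (commutator_alternatingGroup_eq_top (by simpa using h5))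

/-- Of a finite family with solvable intersection one member lies in the kernel. -/
theorem exists_le_kerIn (h5 : 5 ≤ k) {f : ↥X →* Perm (Fin k)} (hX : Big f.range) {ι : Type*}
    [Finite ι] (T : ι → Subgroup G) (hTX : ∀ i, T i ≤ X) (hn : ∀ i, X ≤ normalizer (T i : Set G))
    {S : Subgroup G} (hS : Group.IsSolvable ↥S) (hle : ∀ x ∈ X, (∀ i, x ∈ T i) → x ∈ S) :
    ∃ i, T i ≤ kerIn f := by
  classical
  have := Fintype.ofFinite ι
  by_contra hc
  push Not at hc
  have hbig : ∀ i, Big (fim f (T i)) := fun i => (fim_eq_bot_or_big h5 hX (hn i)).resolve_left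
    fun h => hc i ((fim_eq_bot_iff (hTX i)).mp h)
  have h := (big_finset_inf h5 f hX T hn hbig Finset.univ).1
  refine not_isSolvable_of_big h5 (h.trans (fim_mono f fun x hx => hle x hx.1 fun i => ?_)) hS
  exact (Finset.inf_le (f := T) (Finset.mem_univ i)) hx.2

/-- Two such homomorphisms with comparable kernels have the same kernel. -/
theorem kerIn_eq_of_le [Finite G] (h5 : 5 ≤ k) {f h : ↥X →* Perm (Fin k)} (hf : Big f.range)
    (hh : Big h.range) (hle : kerIn h ≤ kerIn f) : kerIn h = kerIn f := by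
  have hn : X ≤ normalizer (kerIn f : Set G) := by
    have := le_normalizer_map X.subtype (H := f.ker)
    rwa [normalizer_eq_top f.ker, ← MonoidHom.range_eq_map, range_subtype] at this
  refine le_antisymm hle ?_
  rcases fim_eq_bot_or_big h5 hh hn with h' | h'
  · exact (fim_eq_bot_iff (kerIn_le f)).mp h'
  exfalso
  have h1 := factorial_lt_card_of_big (by omega) h'
  have h2 : Nat.card ↥(fim h (kerIn f)) * Nat.card ↥(kerIn h) ≤ Nat.card ↥(kerIn f) := by
    let h₀ : ↥(kerIn f) →* Perm (Fin k) := h.comp (inclusion (kerIn_le f))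
    have e1 : h₀.range = fim h (kerIn f) := by
      ext σ
      constructor
      · rintro ⟨x, rfl⟩; exact ⟨inclusion (kerIn_le f) x, x.2, rfl⟩
      · rintro ⟨x, hx, rfl⟩; exact ⟨⟨(x : G), hx⟩, rfl⟩
    have e2 : kerIn h₀ = kerIn h := by
      ext x
      rw [mem_kerIn (f := h₀), mem_kerIn (f := h)]
      constructor
      · rintro ⟨hx, e⟩; exact ⟨kerIn_le f hx, e⟩
      · rintro ⟨hx, e⟩; exact ⟨hle (mem_kerIn.mpr ⟨hx, e⟩), e⟩
    rw [← e1, ← e2, card_range_mul h₀]
  have h3 := card_range_mul f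
  have h4 := card_range_mul h
  have h5' : Nat.card ↥h.range ≤ k.factorial := by
    refine (card_le_card_group h.range).trans ?_
    rw [Nat.card_perm, Nat.card_fin]
  have h6 := factorial_lt_card_of_big (n := k) (by omega) hf
  have hk : k.factorial = k * (k - 1).factorial := (Nat.mul_factorial_pred (by omega)).symm
  have hpos : 0 < Nat.card ↥(kerIn h) := Nat.card_pos
  have h7 : (k - 1).factorial * (k - 1).factorial * Nat.card ↥(kerIn h) <
      k.factorial * Nat.card ↥(kerIn h) :=
    calc (k - 1).factorial * (k - 1).factorial * Nat.card ↥(kerIn h)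
        < Nat.card ↥f.range * Nat.card ↥(fim h (kerIn f)) * Nat.card ↥(kerIn h) := by
          refine Nat.mul_lt_mul_of_lt_of_le ?_ le_rfl hpos
          exact Nat.mul_lt_mul_of_lt_of_lt h6 h1
      _ ≤ Nat.card ↥f.range * Nat.card ↥(kerIn f) := by
          rw [mul_assoc]; exact Nat.mul_le_mul_left _ h2
      _ = Nat.card ↥h.range * Nat.card ↥(kerIn h) := by rw [h3, h4]
      _ ≤ k.factorial * Nat.card ↥(kerIn h) := Nat.mul_le_mul_right _ h5'
  have h8 : (k - 1).factorial * (k - 1).factorial < k * (k - 1).factorial :=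
    hk ▸ Nat.lt_of_mul_lt_mul_right h7
  have h9 : (k - 1).factorial < k := Nat.lt_of_mul_lt_mul_right h8
  have h10 : (k - 1) * (k - 2) ≤ (k - 1).factorial := by
    conv_rhs => rw [← Nat.mul_factorial_pred (show k - 1 ≠ 0 by omega)]
    exact Nat.mul_le_mul_left _ (by rw [show k - 1 - 1 = k - 2 by omega]; exact Nat.self_le_factorial _)
  have : (k - 1) * 3 ≤ (k - 1) * (k - 2) := Nat.mul_le_mul_left _ (by omega)
  omega

end Alternating

end Cfsg.Agent.ThompsonWielandt
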